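import Cfsg.Agent.Lib.HNType12.Equiv
import Cfsg.Agent.Lib.Fg6.CoverUnique
import Cfsg.Agent.Lib.ConwayOut.HS
import Mathlib.GroupTheory.GroupAction.ConjAct

/-!
# The double cover of the Higman-Sims group and its automorphisms (helper12)
-/

set_option autoImplicit false
set_option maxRecDepth 20000

universe u

namespace Cfsg.Agent.Lib.HNType12

open Cfsg Subgroup
open scoped commutatorElement

theorem hs_commutator : commutator ↥Spor.HS = ⊤ := by
  have := HSRankThree49.isSimple_HS
  rcases (commutator_normal ⊤ ⊤ : (commutator ↥Spor.HS).Normal).eq_bot_or_eq_top with h | h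
  · exfalso
    have hc : ∀ a b : ↥Spor.HS, a * b = b * a := fun a b => by
      have : ⁅a, b⁆ ∈ commutator ↥Spor.HS := commutator_mem_commutator (mem_top a) (mem_top b)
      rw [commutator_def, h, mem_bot, commutatorElement_eq_one_iff_mul_comm] at this
      exact this
    letI : CommGroup ↥Spor.HS := { (inferInstance : Group ↥Spor.HS) with mul_comm := hc }
    have hp := IsSimpleGroup.prime_card (α := ↥Spor.HS)
    rw [HNSub.card_HS] at hp
    norm_num at hp
  · exact h

theorem hs_center : center ↥Spor.HS = ⊥ := by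
  have := HSRankThree49.isSimple_HS
  rcases (inferInstance : (center ↥Spor.HS).Normal).eq_bot_or_eq_top with h | h
  · exact h
  · exfalso
    have hle : commutator ↥Spor.HS ≤ ⊥ := Subgroup.commutator_le.2 fun a _ b _ => by
      rw [mem_bot, commutatorElement_eq_one_iff_mul_comm]
      exact (mem_center_iff.1 (h ▸ mem_top b : b ∈ center ↥Spor.HS) a)
    rw [hs_commutator, top_le_iff] at hle
    exact bot_ne_top hle

instance finite_HS : Finite ↥Spor.HS := Nat.finite_of_card_ne_zero (by rw [HNSub.card_HS]; norm_num)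

theorem perfect_of_cover {H : Type u} [Group H] (h : IsNonsplitDoubleCover H ↥Spor.HS) :
    commutator H = ⊤ := by
  obtain ⟨hz, ⟨r⟩, hsplit⟩ := h
  let f : H →* ↥Spor.HS := r.toMonoidHom.comp (QuotientGroup.mk' (center H))
  have hf : Function.Surjective f := r.surjective.comp (QuotientGroup.mk'_surjective _)
  have hker : ∀ x, f x = 1 → x ∈ center H := fun x hx => by
    have : r (QuotientGroup.mk' (center H) x) = 1 := hx
    rw [r.map_eq_one_iff] at this
    exact (QuotientGroup.eq_one_iff x).1 this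
  have hsup : commutator H ⊔ center H = ⊤ := by
    refine eq_top_iff.2 fun x _ => ?_
    have hmap : (commutator H).map f = ⊤ := by
      rw [commutator_def, map_commutator, map_top_of_surjective f hf, ← commutator_def, hs_commutator]
    obtain ⟨y, hy, hyx⟩ : f x ∈ (commutator H).map f := by rw [hmap]; trivial
    rw [← mul_inv_cancel_left y x]
    exact mul_mem (mem_sup_left hy) (mem_sup_right (hker _ (by rw [map_mul, map_inv, hyx, inv_mul_cancel])))
  by_cases hle : center H ≤ commutator H
  · rwa [sup_eq_left.2 hle] at hsup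
  · exfalso
    refine hsplit (commutator H) (isComplement'_of_disjoint_and_mul_eq_univ ?_ ?_)
    · rw [disjoint_iff]
      have : Fact (Nat.card (center H)).Prime := ⟨by rw [hz]; exact Nat.prime_two⟩
      rcases ((commutator H).subgroupOf (center H)).eq_bot_or_eq_top_of_prime_card with h | h
      · rw [subgroupOf_eq_bot] at h
        exact h.symm.eq_bot
      · exact absurd (subgroupOf_eq_top.1 h) hle
    · refine Set.eq_univ_of_forall fun x => ?_
      obtain ⟨a, ha, b, hb, rfl⟩ := mem_sup_of_normal_left.1 (by rw [sup_comm, hsup]; trivial : x ∈ center H ⊔ commutator H)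
      exact Set.mul_mem_mul ha hb

theorem schur_card : Nat.card (Multiplier.schurM ↥Spor.HS) = 2 := by
  obtain ⟨e⟩ := Multiplier.mulEquiv_of_hasSchurMultiplier Co3Model.HS.multiplier_HS
  rw [← Nat.card_congr e.toEquiv, Nat.card_congr Multiplicative.toAdd, Nat.card_zmod]

theorem coprime_HS : Nat.Coprime (Nat.card (Abelianization ↥Spor.HS)) (Nat.card (Multiplier.schurM ↥Spor.HS)) := by
  have h : Nat.card (Abelianization ↥Spor.HS) = 1 := by
    show (commutator ↥Spor.HS).index = 1
    rw [hs_commutator, index_top]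
  rw [h]
  exact Nat.coprime_one_left _

theorem stem_of_cover {H : Type} [Group H] [Finite H] (h : IsNonsplitDoubleCover H ↥Spor.HS) :
    ∃ σ : H →* ↥Spor.HS, IsStemExtension σ ∧ Nat.card σ.ker = 2 := by
  have hperf := perfect_of_cover h
  obtain ⟨hz, ⟨r⟩, -⟩ := h
  refine ⟨r.toMonoidHom.comp (QuotientGroup.mk' (center H)),
    ⟨r.surjective.comp (QuotientGroup.mk'_surjective _), ?_, hperf ▸ le_top⟩, ?_⟩
  all_goals rw [show (r.toMonoidHom.comp (QuotientGroup.mk' (center H))).ker = center H by
    ext x; rw [MonoidHom.mem_ker, MonoidHom.comp_apply, MulEquiv.coe_toMonoidHom, r.map_eq_one_iff]; exact QuotientGroup.eq_one_iff x]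
  exact hz

theorem IsNonsplit.congr {H H' : Type*} [Group H] [Group H'] {K : Type*} [Group K] (e : H ≃* H')
    (h : IsNonsplitDoubleCover H K) : IsNonsplitDoubleCover H' K := by
  obtain ⟨hz, ⟨r⟩, hsplit⟩ := h
  have hmap : (center H).map e.toMonoidHom = center H' := by
    ext x
    simp only [mem_map, mem_center_iff]
    constructor
    · rintro ⟨y, hy, rfl⟩ g
      simpa using congrArg e (hy (e.symm g))
    · intro hx
      refine ⟨e.symm x, fun g => ?_, e.apply_symm_apply x⟩
      simpa using congrArg e.symm (hx (e g))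
  refine ⟨?_, ⟨(QuotientGroup.congr (center H) (center H') e hmap).symm.trans r⟩, fun L hL => ?_⟩
  · rw [← hz, ← hmap]
    exact Nat.card_congr ((center H).equivMapOfInjective _ e.injective).toEquiv.symm
  · refine hsplit (L.comap e.toMonoidHom) ?_
    refine isComplement'_of_disjoint_and_mul_eq_univ ?_ (Set.eq_univ_of_forall fun x => ?_)
    · rw [disjoint_def]
      intro x hx hxL
      exact e.map_eq_one_iff.1 (disjoint_def.1 hL.disjoint (hmap ▸ mem_map_of_mem _ hx) hxL)
    · obtain ⟨⟨a, b⟩, hab⟩ := hL.2 (e x)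
      refine ⟨e.symm a, ?_, e.symm b, ?_, ?_⟩
      · obtain ⟨y, hy, hya⟩ := (hmap.symm ▸ a.2 : (a : H') ∈ (center H).map e.toMonoidHom)
        rw [SetLike.mem_coe, ← hya]
        simpa using hy
      · show e (e.symm b) ∈ L
        rw [e.apply_symm_apply]
        exact b.2
      · show e.symm a * e.symm b = x
        rw [← map_mul]
        exact e.symm_apply_eq.2 hab

/-- Any nonsplit double cover of the Higman-Sims group is a copy of the normal closure of `Y`. -/
theorem exists_iso {H : Type u} [Group H] [Finite H] (h : IsNonsplitDoubleCover H ↥Spor.HS) :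
    Nonempty (↥HNSub.G1 ≃* H) := by
  have : Small.{0} H := Countable.toSmall H
  let eH : Shrink.{0} H ≃* H := Shrink.mulEquiv
  have : Finite (Shrink.{0} H) := Finite.of_equiv H eH.symm.toEquiv
  obtain ⟨σ, hσ, hc⟩ := stem_of_cover (IsNonsplit.congr eH.symm h)
  obtain ⟨σ', hσ', hc'⟩ := stem_of_cover HNSub.G1_cover
  obtain ⟨e, -⟩ := Fg6.CoverUnique.exists_iso_of_coprime σ' σ hσ' hσ (hc'.trans schur_card.symm)
    (hc.trans schur_card.symm) coprime_HS
  exact ⟨e.trans eH⟩

theorem card_aut_HS : Nat.card (MulAut ↥Spor.HS) ≤ 88704000 := by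
  rw [card_eq_card_quotient_mul_card_subgroup (Inn ↥Spor.HS), show (MulAut ↥Spor.HS ⧸ Inn ↥Spor.HS) = Out ↥Spor.HS from rfl,
    ConwayOut.HS.card_out]
  have : Nat.card (Inn ↥Spor.HS) ≤ 44352000 := by
    rw [← HNSub.card_HS]
    exact Nat.card_le_card_of_surjective _ (MulAut.conj : ↥Spor.HS →* MulAut ↥Spor.HS).rangeRestrict_surjective
  omega

theorem card_aut_G1 : Nat.card (MulAut ↥HNSub.G1) ≤ 88704000 := by
  obtain ⟨hz, ⟨r⟩, -⟩ := HNSub.G1_cover
  have hperf := perfect_of_cover HNSub.G1_cover
  have hmap : ∀ α : MulAut ↥HNSub.G1, (center ↥HNSub.G1).map α.toMonoidHom = center ↥HNSub.G1 := fun α => by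
    ext x
    simp only [mem_map, mem_center_iff]
    constructor
    · rintro ⟨y, hy, rfl⟩ g
      simpa using congrArg α (hy (α.symm g))
    · intro hx
      refine ⟨α.symm x, fun g => ?_, α.apply_symm_apply x⟩
      simpa using congrArg α.symm (hx (α g))
  let Φ : MulAut ↥HNSub.G1 → MulAut ↥Spor.HS := fun α =>
    (MulAut.congr r) (QuotientGroup.congr _ _ α (hmap α))
  refine (Nat.card_le_card_of_injective Φ fun α β hab => ?_).trans card_aut_HS
  have hq : ∀ x, (α x)⁻¹ * β x ∈ center ↥HNSub.G1 := fun x =>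
    QuotientGroup.eq.1 (DFunLike.congr_fun ((MulAut.congr r).injective hab) (x : ↥HNSub.G1 ⧸ center ↥HNSub.G1))
  let ζ : ↥HNSub.G1 →* center ↥HNSub.G1 := MonoidHom.mk' (fun x => ⟨(α x)⁻¹ * β x, hq x⟩) fun x y =>
    Subtype.ext (by
      show (α (x * y))⁻¹ * β (x * y) = (α x)⁻¹ * β x * ((α y)⁻¹ * β y)
      have := mem_center_iff.1 (hq x) (α y)⁻¹
      rw [map_mul, map_mul, mul_inv_rev, mul_assoc (α y)⁻¹, ← mul_assoc (α x)⁻¹, ← mul_assoc, this]
      group)
  have hker : commutator ↥HNSub.G1 ≤ ζ.ker := by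
    letI : CommGroup (center ↥HNSub.G1) := { (inferInstance : Group (center ↥HNSub.G1)) with
      mul_comm := fun a b => Subtype.ext (mem_center_iff.1 b.2 a.1) }
    exact Abelianization.commutator_subset_ker ζ
  refine MulEquiv.ext fun x => ?_
  have hx : ζ x = 1 := hker (hperf ▸ mem_top x)
  have := congrArg Subtype.val hx
  exact inv_mul_eq_one.1 this

theorem conjNormal_surjective :
    Function.Surjective (MulAut.conjNormal : HNSub.F →* MulAut ↥HNSub.G1) := by
  let c : HNSub.F →* MulAut ↥HNSub.G1 := MulAut.conjNormal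
  have : Finite (MulAut ↥HNSub.G1) := Finite.of_injective (fun α => (α : ↥HNSub.G1 → ↥HNSub.G1)) DFunLike.coe_injective
  have hker : c.ker ≤ (center ↥HNSub.G1).map HNSub.G1.subtype := by
    intro f hf
    have hcomm : ∀ g ∈ HNSub.G1, g * f = f * g := fun g hg => by
      have h := congrArg Subtype.val (DFunLike.congr_fun (MonoidHom.mem_ker.1 hf) ⟨g, hg⟩)
      rw [MulAut.conjNormal_apply] at h
      exact (mul_inv_eq_iff_eq_mul.1 h).symm
    have hpsi : HNSub.psi f = 1 := HNSub.centralizer_trivial fun k hk => by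
      rw [← HNSub.map_G1] at hk
      obtain ⟨g, hg, rfl⟩ := hk
      rw [← map_mul, ← map_mul, hcomm g hg]
    have hf1 : f ∈ HNSub.G1 := by
      by_contra hn
      have hZl : HNSub.Z * f ∈ HNSub.G1 := (mul_mem_iff_of_index_two HNSub.G1_index).2
        (iff_of_false Z_not_mem hn)
      refine Z_not_mem ((mul_mem_cancel_right ?_).1 hZl)
      exact absurd (HNSub.map_G1 ▸ (by rw [← mul_one (HNSub.psi HNSub.Z), ← hpsi, ← map_mul]; exact mem_map_of_mem _ hZl) : HNSub.psi HNSub.Z ∈ HNSub.K0) HNSub.psi_Z_not_mem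
    exact ⟨⟨f, hf1⟩, mem_center_iff.2 fun g => Subtype.ext (hcomm g.1 g.2), rfl⟩
  have hk : Nat.card c.ker ≤ 2 := by
    refine (card_le_of_le hker).trans ?_
    rw [Nat.card_congr ((center ↥HNSub.G1).equivMapOfInjective _ HNSub.G1.subtype_injective).toEquiv.symm]
    exact HNSub.G1_cover.1.le
  have hr := card_eq_card_quotient_mul_card_subgroup c.ker
  rw [HNSub.card_F, Nat.card_congr (QuotientGroup.quotientKerEquivRange c).toEquiv] at hr
  have hle : Nat.card c.range * Nat.card c.ker ≤ Nat.card c.range * 2 := Nat.mul_le_mul_left _ hk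
  have hge : Nat.card (MulAut ↥HNSub.G1) ≤ Nat.card c.range := by
    have := card_aut_G1
    omega
  exact MonoidHom.range_eq_top.1 (eq_top_of_le_card _ hge)

end Cfsg.Agent.Lib.HNType12
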