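import Cfsg.Agent.Lib.HNSub.Main

/-!
# Harada-Norton type groups: vocabulary of the cluster S1650, S1656, S1674 (helper12)

`F` is the group presented on `x, y, z` of `Lib/HNSub` (order 177408000, `C0 = X²` central).
In `F` the class of `Y³` has 5775 elements, so does the class of `Y³ C0`.
-/

set_option autoImplicit false

universe u

namespace Cfsg.Agent.Lib.HNType12

open Cfsg Cfsg.Agent.Lib.HNSub

/-- The centraliser of `t` is a copy of `F`, with `C0` going to `t`. -/
structure Model {G : Type u} [Group G] (t : G) where
  /-- the embedding -/
  φ : HNSub.F →* G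
  inj : Function.Injective φ
  range_eq : φ.range = Subgroup.centralizer {t}
  map_C0 : φ HNSub.C0 = t

/-- The involution `Y³`, to become conjugate to the central one. -/
noncomputable abbrev eA : HNSub.F := HNSub.Y ^ 3

/-- The involution `Y³ C0`, not conjugate to the central one. -/
noncomputable abbrev eB : HNSub.F := HNSub.Y ^ 3 * HNSub.C0

/-- The fusion facts available to everybody. -/
structure Fusion {G : Type u} [Group G] {t : G} (M : Model t) : Prop where
  conjA : IsConj t (M.φ eA)
  not_conjB : ¬ IsConj t (M.φ eB)

/-- The presented Harada-Norton group maps to `G` extending the model of the centraliser. -/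
structure Glued {G : Type u} [Group G] {t : G} (M : Model t) where
  /-- the map -/
  ψ : Spor.HN →* G
  comp : ψ.comp HNSub.toHN = M.φ

/-- Block A and B: the model and its fusion (helper12). -/
def PropModel : Prop :=
  ∀ {G : Type u} [Group G] [Finite G] [IsSimpleGroup G] (t : G), orderOf t = 2 →
    ∀ (M : Subgroup (Subgroup.centralizer ({t} : Set G))) [M.Normal], M.index = 2 →
      Subgroup.centralizer (M : Set (Subgroup.centralizer ({t} : Set G))) ≤ M →
      IsNonsplitDoubleCover M Spor.HS → ∃ Md : Model t, Fusion Md

/-- The gluing (helper98). -/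
def PropGlue : Prop :=
  ∀ {G : Type u} [Group G] [Finite G] [IsSimpleGroup G] (t : G) (Md : Model t), Fusion Md →
    Nonempty (Glued Md)

/-- The second centraliser and the conclusion (helper54). -/
def PropWhole : Prop :=
  ∀ {G : Type u} [Group G] [Finite G] [IsSimpleGroup G] (t : G) (Md : Model t), Fusion Md →
    ∀ Gl : Glued Md, Function.Bijective Gl.ψ ∧
      ∀ w : G, orderOf w = 2 → IsConj w t ∨ IsConj w (Md.φ eB)

end Cfsg.Agent.Lib.HNType12
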