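import Cfsg.Agent.Lib.CosetEnum.HNP.StabCard
import Cfsg.Agent.Lib.HNType12.SylData

/-!
# A Sylow 2-subgroup of the group on `x, y, z` with computable multiplication (helper12)
-/

set_option autoImplicit false
set_option maxRecDepth 20000

namespace Cfsg.Agent.Lib.HNType12.Syl

open Cfsg.Agent.Lib.CosetEnum Cfsg.Agent.Lib.ExactCover
open Cfsg.Agent.Lib.CosetEnum.HNP (okWord val imgPt basePt)

/-- The group on `x, y, z`. -/
abbrev PG : Type := PresentedGroup HNP.pres

/-- The word of a generator. -/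
def gw (j : ℕ) : List ℕ := SylData.gens.getD j []

/-- A generator. -/
noncomputable def g (j : ℕ) : PG := HNP.val (gw j)

/-- The product of the generators at the bits below `k` of `c`. -/
noncomputable def elK : ℕ → ℕ → PG
  | 0, _ => 1
  | k + 1, c => bif c.testBit k then elK k c * g k else elK k c

/-- The element with code `c`. -/
noncomputable abbrev el (c : ℕ) : PG := elK 11 c

/-- The tabulated image of a base point. -/
noncomputable def P (c b : ℕ) : ℕ := get32 SylData.pts (Nat.add (Nat.mul c 5) b)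

/-- The tabulated image of a point under a generator. -/
noncomputable def T (j v : ℕ) : ℕ := get32 SylData.tab (Nat.add (Nat.mul v 11) j)

/-- The product of an element with a generator. -/
noncomputable def R (c j : ℕ) : ℕ := get32 SylData.rmul (Nat.add (Nat.mul c 11) j)

/-- The product using the bits below `k` of `d`. -/
noncomputable def mulK (c d : ℕ) : ℕ → ℕ :=
  fun k => Nat.rec c (fun i acc => bif d.testBit i then force acc (fun a => R a i) else acc) k

/-- The product. -/
noncomputable def mulC (c d : ℕ) : ℕ := mulK c d 11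

/-- A number determined by the base images. -/
noncomputable def key (c : ℕ) : ℕ :=
  Nat.add (Nat.mul (Nat.add (Nat.mul (Nat.add (Nat.mul (Nat.add (Nat.mul
    (P c 0) 2048) (P c 1)) 2048) (P c 2)) 2048) (P c 3)) 2048) (P c 4)

theorem gens_ok : (SylData.gens.all HNP.okWord && Nat.beq SylData.gens.length 11) = true := by
  decide +kernel

theorem tab_ok : (allBelow 1408 fun v => allBelow 11 fun j =>
    Nat.beq (scan 6 HNP.table (gw j) v) (T j v) && Nat.blt (T j v) 1408) = true := by
  decide +kernel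

theorem base_ok : (allBelow 5 fun b => Nat.beq (P 0 b) (HNP.basePt b)) = true := by decide +kernel

theorem step_ok : (allBelow 11 fun k => allBelow (2 ^ k) fun c => allBelow 5 fun b =>
    force (P c b) fun v => Nat.blt v 1408 && Nat.beq (P (Nat.add c (2 ^ k)) b) (T k v)) = true := by
  decide +kernel

theorem range_ok : (allBelow 2048 fun c => allBelow 5 fun b => Nat.blt (P c b) 1408) = true := by
  decide +kernel

theorem rmul_ok : (allBelow 2048 fun c => allBelow 11 fun j => force (R c j) fun c' =>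
    Nat.blt c' 2048 && allBelow 5 fun b => Nat.beq (P c' b) (T j (P c b))) = true := by
  decide +kernel

theorem srt_ok : (allBelow 2048 (fun i => Nat.blt (get32 SylData.srt i) 2048) &&
    allBelow 2047 fun i =>
      Nat.blt (key (get32 SylData.srt i)) (key (get32 SylData.srt (Nat.succ i)))) = true := by
  decide +kernel

theorem gw_ok (j : ℕ) : HNP.okWord (gw j) = true := by
  have h := gens_ok
  simp only [Bool.and_eq_true, List.all_eq_true] at h
  rcases lt_or_ge j SylData.gens.length with hj | hj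
  · rw [gw, List.getD_eq_getElem _ _ hj]
    exact h.1 _ (List.getElem_mem hj)
  · rw [gw, List.getD_eq_default _ _ hj]
    rfl

theorem imgPt_g {j v : ℕ} (hj : j < 11) (hv : v < 1408) : imgPt (g j) v = T j v := by
  have h := allBelow_iff.1 (allBelow_iff.1 tab_ok v hv) j hj
  simp only [Bool.and_eq_true, Nat.beq_eq] at h
  rw [g, HNP.imgPt_word (gw j) (gw_ok j) hv, h.1]

theorem P_lt {c b : ℕ} (hc : c < 2048) (hb : b < 5) : P c b < 1408 := by
  have h := allBelow_iff.1 (allBelow_iff.1 range_ok c hc) b hb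
  simpa [Nat.blt, Nat.ble_eq] using h

theorem imgPt_elK : ∀ k ≤ 11, ∀ c b, b < 5 → imgPt (elK k c) (HNP.basePt b) = P (c % 2 ^ k) b := by
  intro k
  induction k with
  | zero =>
    intro _ c b hb
    rw [pow_zero, Nat.mod_one, show elK 0 c = 1 from rfl, HNP.imgPt_one (HNP.basePt_lt b)]
    exact (Nat.eq_of_beq_eq_true (allBelow_iff.1 base_ok b hb)).symm
  | succ k ih =>
    intro hk c b hb
    have hlt : c % 2 ^ k < 2 ^ k := Nat.mod_lt _ (Nat.two_pow_pos k)
    have h := allBelow_iff.1 (allBelow_iff.1 (allBelow_iff.1 step_ok k (by omega)) _ hlt) b hb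
    simp only [force_eq, Bool.and_eq_true, Nat.beq_eq, Nat.blt, Nat.ble_eq] at h
    show imgPt (bif c.testBit k then elK k c * g k else elK k c) _ = _
    rw [Nat.mod_pow_succ, ← Nat.toNat_testBit]
    cases c.testBit k
    · simp [ih (by omega) c b hb]
    · rw [cond_true, Bool.toNat_true, mul_one, HNP.imgPt_mul _ _ (HNP.basePt_lt b),
        ih (by omega) c b hb, imgPt_g (by omega) h.1]
      exact h.2.symm.trans (by rw [Nat.add_eq])

theorem imgPt_el {c b : ℕ} (hc : c < 2048) (hb : b < 5) : imgPt (el c) (HNP.basePt b) = P c b := by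
  rw [imgPt_elK 11 le_rfl c b hb, Nat.mod_eq_of_lt (by simpa using hc)]

theorem el_zero : el 0 = 1 := by
  have : ∀ k, elK k 0 = 1 := fun k => by
    induction k with
    | zero => rfl
    | succ k ih => show (bif Nat.testBit 0 k then _ else elK k 0) = 1; simp [ih]
  exact this 11

theorem el_mul_g {c j : ℕ} (hc : c < 2048) (hj : j < 11) :
    R c j < 2048 ∧ el c * g j = el (R c j) := by
  have h := allBelow_iff.1 (allBelow_iff.1 rmul_ok c hc) j hj
  simp only [force_eq, Bool.and_eq_true, Nat.blt, Nat.ble_eq] at h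
  have hr : R c j < 2048 := h.1
  refine ⟨hr, HNP.eq_of_imgPt fun b hb => ?_⟩
  rw [HNP.imgPt_mul _ _ (HNP.basePt_lt b), imgPt_el hc hb, imgPt_g hj (P_lt hc hb), imgPt_el hr hb]
  exact (Nat.eq_of_beq_eq_true (allBelow_iff.1 h.2 b hb)).symm

theorem mulK_spec {c : ℕ} (hc : c < 2048) (d : ℕ) : ∀ k ≤ 11,
    mulK c d k < 2048 ∧ el c * elK k d = el (mulK c d k) := by
  intro k
  induction k with
  | zero => exact fun _ => ⟨hc, mul_one _⟩
  | succ k ih =>
    intro hk
    obtain ⟨h1, h2⟩ := ih (by omega)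
    have e : mulK c d (k + 1) =
        bif d.testBit k then force (mulK c d k) (fun a => R a k) else mulK c d k := rfl
    have e' : elK (k + 1) d = bif d.testBit k then elK k d * g k else elK k d := rfl
    rw [e, e']
    cases d.testBit k
    · exact ⟨h1, h2⟩
    · obtain ⟨h3, h4⟩ := el_mul_g h1 (j := k) (by omega)
      simp only [cond_true, force_eq]
      exact ⟨h3, by rw [← mul_assoc, h2, h4]⟩

theorem mulC_lt {c : ℕ} (hc : c < 2048) (d : ℕ) : mulC c d < 2048 := (mulK_spec hc d 11 le_rfl).1

theorem el_mul {c : ℕ} (hc : c < 2048) (d : ℕ) : el c * el d = el (mulC c d) :=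
  (mulK_spec hc d 11 le_rfl).2

theorem el_inj {c d : ℕ} (hc : c < 2048) (hd : d < 2048) (h : el c = el d) : c = d := by
  have hk : key c = key d := by
    have : ∀ b < 5, P c b = P d b := fun b hb => by rw [← imgPt_el hc hb, ← imgPt_el hd hb, h]
    simp only [key, this 0 (by norm_num), this 1 (by norm_num), this 2 (by norm_num), this 3 (by norm_num),
      this 4 (by norm_num)]
  have h2 := srt_ok
  simp only [Bool.and_eq_true] at h2
  let σ : Fin 2048 → Fin 2048 := fun i =>
    ⟨get32 SylData.srt i.1, by simpa [Nat.blt, Nat.ble_eq] using allBelow_iff.1 h2.1 i.1 i.2⟩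
  have hmono : StrictMono fun i : Fin 2048 => key (σ i).1 := Fin.strictMono_iff_lt_succ.2 fun i => by
    have := allBelow_iff.1 h2.2 i.1 i.2
    simpa [σ, Nat.blt, Nat.ble_eq] using this
  have hinj : Function.Injective σ := fun i j hij => hmono.injective (congrArg (fun x : Fin 2048 => key x.1) hij)
  obtain ⟨i, hi⟩ := Finite.injective_iff_surjective.1 hinj ⟨c, hc⟩
  obtain ⟨j, hj⟩ := Finite.injective_iff_surjective.1 hinj ⟨d, hd⟩
  have hij : i = j := hmono.injective (by
    show key (σ i).1 = key (σ j).1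
    rw [hi, hj]; exact hk)
  rw [hij, hj] at hi
  exact (congrArg Fin.val hi).symm

/-- The subgroup. -/
noncomputable def S : Subgroup PG :=
  Subgroup.closure (el '' {c | c < 2048})

theorem mem_S_iff {p : PG} : p ∈ S ↔ ∃ c < 2048, el c = p := by
  refine ⟨fun h => ?_, fun ⟨c, hc, h⟩ => h ▸ Subgroup.subset_closure ⟨c, hc, rfl⟩⟩
  have := HNP.finite
  refine HNP.closure_induction_mul (p := fun q => ∃ c < 2048, el c = q) ?_ ?_ ?_ h
  · rintro _ ⟨c, hc, rfl⟩; exact ⟨c, hc, rfl⟩
  · exact ⟨0, by norm_num, el_zero⟩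
  · rintro _ _ ⟨c, hc, rfl⟩ ⟨d, -, rfl⟩
    exact ⟨mulC c d, mulC_lt hc d, (el_mul hc d).symm⟩

theorem card_S : Nat.card S = 2048 := by
  let f : Fin 2048 → S := fun c => ⟨el c.1, mem_S_iff.2 ⟨c.1, c.2, rfl⟩⟩
  rw [← Nat.card_congr (Equiv.ofBijective f ⟨fun a b h => Fin.ext (el_inj a.2 b.2 (congrArg Subtype.val h)),
    fun ⟨p, hp⟩ => by
      obtain ⟨c, hc, rfl⟩ := mem_S_iff.1 hp
      exact ⟨⟨c, hc⟩, rfl⟩⟩), Nat.card_fin]

end Cfsg.Agent.Lib.HNType12.Syl
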