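import Cfsg.Agent.Lib.HNType12.Defs
import Cfsg.Agent.Lib.HNType12.Syl
import Cfsg.Agent.Lib.CosetEnum.HNP.Group

/-!
# The two presentations of the group on `x, y, z` and the parity of a word (helper12)
-/

set_option autoImplicit false
set_option maxRecDepth 20000

namespace Cfsg.Agent.Lib.HNType12

open Cfsg.Agent.Lib.CosetEnum Cfsg.Agent.Lib.ExactCover
open Cfsg.Agent.Lib.HNType12.Syl (PG)

instance finite_F : Finite HNSub.F := Nat.finite_of_card_ne_zero (by rw [HNSub.card_F]; norm_num)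

/-- The letters. -/
def g3 : Fin 3 → HNSub.G3 := ![.x, .y, .z]

theorem relWords_rels3 : ∀ l ∈ HNP.relWords,
    FreeGroup.map g3 (FreeGroup.mk (l.map (stdSym 3))) ∈ HNSub.rels3 := by
  decide +kernel

theorem lift_g3 : ∀ r ∈ HNP.pres,
    FreeGroup.lift (fun i => (PresentedGroup.of (g3 i) : HNSub.F)) r = 1 := by
  rintro r hr
  obtain ⟨l, hl, rfl⟩ := List.mem_map.1 hr
  have h : FreeGroup.lift (fun i => (PresentedGroup.of (g3 i) : HNSub.F)) =
      (PresentedGroup.mk {r : FreeGroup HNSub.G3 | r ∈ HNSub.rels3}).comp (FreeGroup.map g3) :=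
    FreeGroup.ext_hom _ _ fun i => by simp [PresentedGroup.of]
  rw [h]
  exact PresentedGroup.one_of_mem (relWords_rels3 l hl)

/-- The map between the presentations. -/
noncomputable def toF : PG →* HNSub.F := PresentedGroup.toGroup lift_g3

theorem toF_of (i : Fin 3) : toF (PresentedGroup.of i) = PresentedGroup.of (g3 i) :=
  PresentedGroup.toGroup.of lift_g3

theorem toF_bijective : Function.Bijective toF := by
  have hs : Function.Surjective toF := by
    rw [← MonoidHom.range_eq_top, eq_top_iff, ← HNSub.closure_gens, Subgroup.closure_le]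
    rintro w (rfl | rfl | rfl)
    exacts [⟨_, toF_of 0⟩, ⟨_, toF_of 1⟩, ⟨_, toF_of 2⟩]
  exact (Nat.bijective_iff_surjective_and_card _).2 ⟨hs, by rw [HNP.card_P.1, HNSub.card_F]⟩

theorem toF_word2 : toF (HNP.val [2]) = HNSub.Y := by
  rw [show ([2] : List ℕ) = [2 * (1 : Fin 3).val] from rfl, HNP.val_gen, toF_of]; rfl

theorem toF_word0 : toF (HNP.val [0]) = HNSub.X := by
  rw [show ([0] : List ℕ) = [2 * (0 : Fin 3).val] from rfl, HNP.val_gen, toF_of]; rfl

theorem toF_word4 : toF (HNP.val [4]) = HNSub.Z := by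
  rw [show ([4] : List ℕ) = [2 * (2 : Fin 3).val] from rfl, HNP.val_gen, toF_of]; rfl

theorem Z_not_mem : HNSub.Z ∉ HNSub.G1 := fun hz =>
  HNSub.psi_Z_not_mem (HNSub.map_G1 ▸ ⟨HNSub.Z, hz, rfl⟩)

/-- The parity of the number of letters `z`. -/
def zpar (w : List ℕ) : Bool := w.foldr (fun g acc => xor (Nat.beq (g / 2) 2) acc) false

theorem toF_letter {g : ℕ} (hg : g < 6) :
    toF (HNP.val [g]) ∈ HNSub.G1 ↔ Nat.beq (g / 2) 2 = false := by
  have hx : toF (HNP.val [0]) ∈ HNSub.G1 := by rw [toF_word0]; exact HNSub.X_mem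
  have hy : toF (HNP.val [2]) ∈ HNSub.G1 := by rw [toF_word2]; exact HNSub.Y_mem
  have hz : toF (HNP.val [4]) ∉ HNSub.G1 := by rw [toF_word4]; exact Z_not_mem
  have hf : ∀ k, k < 6 → toF (HNP.val [ExactCover.flip k]) = (toF (HNP.val [k]))⁻¹ := fun k hk => by
    rw [HNP.val_flip hk, map_inv]
  interval_cases g
  · exact iff_of_true hx rfl
  · rw [show [1] = [ExactCover.flip 0] from rfl, hf 0 (by norm_num), inv_mem_iff]
    exact iff_of_true hx rfl
  · exact iff_of_true hy rfl
  · rw [show [3] = [ExactCover.flip 2] from rfl, hf 2 (by norm_num), inv_mem_iff]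
    exact iff_of_true hy rfl
  · exact iff_of_false hz (by decide)
  · rw [show [5] = [ExactCover.flip 4] from rfl, hf 4 (by norm_num), inv_mem_iff]
    exact iff_of_false hz (by decide)

theorem mul_mem_G1 {a b : HNSub.F} : a * b ∈ HNSub.G1 ↔ (a ∈ HNSub.G1 ↔ b ∈ HNSub.G1) :=
  Subgroup.mul_mem_iff_of_index_two HNSub.G1_index

theorem toF_word : ∀ w : List ℕ, HNP.okWord w = true →
    (toF (HNP.val w) ∈ HNSub.G1 ↔ zpar w = false)
  | [], _ => by simp [HNP.val_nil, zpar]
  | g :: w, h => by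
    simp only [HNP.okWord_iff, List.mem_cons, forall_eq_or_imp] at h
    rw [show g :: w = [g] ++ w from rfl, HNP.val_append, map_mul, mul_mem_G1, toF_letter h.1,
      toF_word w (HNP.okWord_iff.2 h.2),
      show zpar ([g] ++ w) = xor (Nat.beq (g / 2) 2) (zpar w) from rfl]
    cases Nat.beq (g / 2) 2 <;> cases zpar w <;> simp

end Cfsg.Agent.Lib.HNType12
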