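import Cfsg.Agent.Lib.HNType12.Table
import Mathlib.GroupTheory.Sylow

/-!
# Involutions and a Sylow 2-subgroup of the group on `x, y, z` (helper12)
-/

set_option autoImplicit false
set_option maxRecDepth 20000

namespace Cfsg.Agent.Lib.HNType12

open Cfsg.Agent.Lib.CosetEnum Cfsg.Agent.Lib.ExactCover
open Cfsg.Agent.Lib.HNType12.Syl (PG el elK gw g mulC)
open Cfsg.Agent.Lib.HNType12.Table (par wordK sqT roots centCard good)

/-- The element of the Sylow subgroup with code `c`. -/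
noncomputable def sylF (c : ℕ) : HNSub.F := toF (el c)

/-- The Sylow subgroup. -/
noncomputable def SF : Subgroup HNSub.F := Syl.S.map toF

theorem mem_SF_iff {f : HNSub.F} : f ∈ SF ↔ ∃ c < 2048, sylF c = f := by
  constructor
  · rintro ⟨p, hp, rfl⟩
    obtain ⟨c, hc, rfl⟩ := Syl.mem_S_iff.1 hp
    exact ⟨c, hc, rfl⟩
  · rintro ⟨c, hc, rfl⟩
    exact ⟨el c, Syl.mem_S_iff.2 ⟨c, hc, rfl⟩, rfl⟩

theorem sylF_mem {c : ℕ} (hc : c < 2048) : sylF c ∈ SF := mem_SF_iff.2 ⟨c, hc, rfl⟩

theorem sylF_mul {c : ℕ} (hc : c < 2048) (d : ℕ) : sylF c * sylF d = sylF (mulC c d) := by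
  rw [sylF, sylF, sylF, ← map_mul, Syl.el_mul hc]

theorem sylF_inj {c d : ℕ} (hc : c < 2048) (hd : d < 2048) (h : sylF c = sylF d) : c = d :=
  Syl.el_inj hc hd (toF_bijective.1 h)

theorem sylF_zero : sylF 0 = 1 := by rw [sylF, Syl.el_zero, map_one]

theorem okWord_wordK : ∀ k c : ℕ, HNP.okWord (wordK k c) = true
  | 0, _ => rfl
  | k + 1, c => by
    show HNP.okWord (bif c.testBit k then wordK k c ++ gw k else wordK k c) = true
    cases c.testBit k
    · exact okWord_wordK k c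
    · exact HNP.okWord_append (okWord_wordK k c) (Syl.gw_ok k)

theorem val_wordK : ∀ k c : ℕ, HNP.val (wordK k c) = elK k c
  | 0, _ => HNP.val_nil
  | k + 1, c => by
    show HNP.val (bif c.testBit k then wordK k c ++ gw k else wordK k c) =
      (bif c.testBit k then elK k c * g k else elK k c)
    cases c.testBit k
    · exact val_wordK k c
    · simp only [cond_true, HNP.val_append, val_wordK k c]
      rfl

theorem par_iff (c : ℕ) : sylF c ∈ HNSub.G1 ↔ par c = false := by
  have key : ∀ k, (toF (elK k c) ∈ HNSub.G1 ↔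
      (Nat.rec false (fun i acc => bif c.testBit i then xor acc (zpar (gw i)) else acc) k : Bool) = false) := by
    intro k
    induction k with
    | zero => exact iff_of_true (by rw [show elK 0 c = 1 from rfl, map_one]; exact one_mem _) rfl
    | succ k ih =>
      show toF (bif c.testBit k then elK k c * g k else elK k c) ∈ HNSub.G1 ↔
        (bif c.testBit k then xor _ (zpar (gw k)) else _) = false
      cases c.testBit k
      · exact ih
      · simp only [cond_true, map_mul, mul_mem_G1, show g k = HNP.val (gw k) from rfl,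
          toF_word _ (Syl.gw_ok k), ih]
        generalize (Nat.rec false (fun i acc => bif c.testBit i then xor acc (zpar (gw i)) else acc) k : Bool) = b
        cases b <;> cases zpar (gw k) <;> simp
  exact key 11

theorem elK_bit : ∀ k, elK k 1 = if k = 0 then 1 else g 0
  | 0 => rfl
  | k + 1 => by
    show (bif Nat.testBit 1 k then elK k 1 * g k else elK k 1) = _
    rw [elK_bit k]
    rcases k with _ | k
    · simp
    · simp [Nat.testBit_succ]

theorem elK_bit2 : ∀ k, elK k 2 = if k ≤ 1 then 1 else g 1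
  | 0 => rfl
  | k + 1 => by
    show (bif Nat.testBit 2 k then elK k 2 * g k else elK k 2) = _
    rw [elK_bit2 k]
    rcases k with _ | _ | k
    · simp [Nat.testBit_zero]
    · simp [Nat.testBit_succ, Nat.testBit_zero]
    · simp [Nat.testBit_succ]

theorem sylF_one : sylF 1 = HNSub.C0 := by
  have h := Table.words_ok
  simp only [Bool.and_eq_true, decide_eq_true_eq] at h
  rw [sylF, show el 1 = elK 11 1 from rfl, elK_bit, if_neg (by norm_num), show g 0 = HNP.val (gw 0) from rfl, h.1,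
    show ([0, 0] : List ℕ) = [0] ++ [0] from rfl, HNP.val_append, map_mul, toF_word0, ← pow_two]

theorem sylF_two : sylF 2 = eA := by
  have h := Table.words_ok
  simp only [Bool.and_eq_true, decide_eq_true_eq] at h
  rw [sylF, show el 2 = elK 11 2 from rfl, elK_bit2, if_neg (by norm_num), show g 1 = HNP.val (gw 1) from rfl, h.2,
    show ([2, 2, 2] : List ℕ) = [2] ++ ([2] ++ [2]) from rfl, HNP.val_append, HNP.val_append, map_mul, map_mul,
    toF_word2, eA, pow_three]

theorem sylF_three : sylF 3 = eB := by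
  have h := Table.central_ok
  simp only [Bool.and_eq_true, Nat.beq_eq] at h
  rw [← h.1, ← sylF_mul (by norm_num), sylF_one, sylF_two]

theorem SF_commute_eA {f : HNSub.F} (hf : f ∈ SF) : f * eA = eA * f := by
  obtain ⟨c, hc, rfl⟩ := mem_SF_iff.1 hf
  have h := Table.central_ok
  simp only [Bool.and_eq_true] at h
  have h2 : mulC c 2 = mulC 2 c := Nat.eq_of_beq_eq_true (allBelow_iff.1 h.2 c hc)
  rw [← sylF_two, sylF_mul hc, sylF_mul (by norm_num), h2]

theorem card_SF : Nat.card SF = 2048 := by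
  rw [← Syl.card_S]
  exact (Nat.card_congr (Syl.S.equivMapOfInjective toF toF_bijective.1).toEquiv).symm

instance fact_two : Fact (Nat.Prime 2) := ⟨Nat.prime_two⟩

/-- The Sylow subgroup, as such. -/
noncomputable def sylowF : Sylow 2 HNSub.F :=
  Sylow.ofCard SF (by
    rw [card_SF, HNSub.card_F, show (177408000 : ℕ) = 2 ^ 11 * 86625 by norm_num,
      Nat.factorization_mul (by norm_num) (by norm_num), Finsupp.add_apply, Nat.prime_two.factorization_pow,
      Finsupp.single_eq_same, Nat.factorization_eq_zero_of_not_dvd (by norm_num : ¬ 2 ∣ 86625)]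
    norm_num)

theorem exists_conj_le {P : Subgroup HNSub.F} (hP : IsPGroup 2 P) :
    ∃ f : HNSub.F, ∀ p ∈ P, f * p * f⁻¹ ∈ SF := by
  obtain ⟨Q, hQ⟩ := hP.exists_le_sylow
  obtain ⟨f, hf⟩ := MulAction.exists_smul_eq HNSub.F Q sylowF
  refine ⟨f, fun p hp => ?_⟩
  have : f * p * f⁻¹ ∈ ((f • Q : Sylow 2 HNSub.F) : Subgroup HNSub.F) := ⟨p, hQ hp, rfl⟩
  rwa [hf] at this

theorem isPGroup_zpowers {f : HNSub.F} {k : ℕ} (h : f ^ 2 ^ k = 1) : IsPGroup 2 (Subgroup.zpowers f) := by
  rintro ⟨x, hx⟩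
  obtain ⟨n, rfl⟩ := Subgroup.mem_zpowers_iff.1 hx
  refine ⟨k, Subtype.ext ?_⟩
  show (f ^ n) ^ 2 ^ k = 1
  rw [← zpow_natCast, ← zpow_mul, mul_comm, zpow_mul, zpow_natCast, h, one_zpow]

theorem exists_conj_sylF {f : HNSub.F} {k : ℕ} (h : f ^ 2 ^ k = 1) :
    ∃ c < 2048, IsConj (sylF c) f := by
  obtain ⟨u, hu⟩ := exists_conj_le (isPGroup_zpowers h)
  obtain ⟨c, hc, e⟩ := mem_SF_iff.1 (hu f (Subgroup.mem_zpowers f))
  exact ⟨c, hc, isConj_iff.2 ⟨u⁻¹, by rw [e]; group⟩⟩

theorem sq_eq_one_iff {c : ℕ} (hc : c < 2048) : sylF c * sylF c = 1 ↔ Table.sq c = 0 := by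
  rw [sylF_mul hc, ← sylF_zero]
  exact ⟨fun h => sylF_inj (Syl.mulC_lt hc c) (by norm_num) h, fun h => by rw [show mulC c c = 0 from h]⟩

theorem no_outer_sq {f : HNSub.F} (hf : f ∉ HNSub.G1) : f * f ≠ HNSub.C0 := by
  intro e
  obtain ⟨c, hc, h⟩ := exists_conj_sylF (f := f) (k := 2)
    (by rw [show 2 ^ 2 = 2 + 2 from rfl, pow_add, pow_two, e, HNSub.C0_sq])
  obtain ⟨u, rfl⟩ := isConj_iff.1 h
  have hp : par c = true := by
    cases hb : par c
    · exact absurd (((inferInstance : HNSub.G1.Normal)).conj_mem _ ((par_iff c).2 hb) u) hf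
    · rfl
  have hs : Table.sq c = 1 := by
    refine sylF_inj (Syl.mulC_lt hc c) (by norm_num) ?_
    rw [show sylF (Table.sq c) = sylF c * sylF c from (sylF_mul hc c).symm, sylF_one]
    have e' : u * (sylF c * sylF c) * u⁻¹ = HNSub.C0 := by rw [← e]; group
    have hz := Subgroup.mem_center_iff.1 HNSub.C0_central u
    calc sylF c * sylF c = u⁻¹ * (u * (sylF c * sylF c) * u⁻¹) * u := by group
      _ = u⁻¹ * HNSub.C0 * u := by rw [e']
      _ = HNSub.C0 := by rw [mul_assoc, ← hz, inv_mul_cancel_left]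
  have := allBelow_iff.1 Table.outer_root_ok c hc
  rw [hp, hs] at this
  simp at this

theorem conjs_spec {r t : ℕ} {q : List ℕ} (h : (r, t, q) ∈ SylData.conjs) :
    r < 2048 ∧ IsConj (sylF t) (sylF r) ∧
      (par r = true → (t = 8 ∨ t = 212) ∧ centCard r ≤ 256) ∧ (par r = false → t = 2 ∨ t = 3) := by
  have h0 := List.all_eq_true.1 Table.conjs_ok _ h
  simp only [Bool.and_eq_true] at h0
  obtain ⟨⟨hr, hq⟩, hb⟩ := h0
  have hr' : r < 2048 := by simpa [Nat.blt, Nat.ble_eq] using hr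
  have hw : HNP.wordEq (ExactCover.invWord q ++ wordK 11 t ++ q) (wordK 11 r) = true →
      IsConj (sylF t) (sylF r) := fun hw => by
    have e := congrArg toF (HNP.val_eq_of_wordEq hw)
    rw [HNP.val_append, HNP.val_append, HNP.val_invWord q hq, val_wordK, val_wordK, map_mul, map_mul, map_inv] at e
    exact isConj_iff.2 ⟨(toF (HNP.val q))⁻¹, by rw [inv_inv]; exact e⟩
  cases hp : par r
  · rw [hp] at hb
    simp only [cond_false, Bool.and_eq_true, Bool.or_eq_true, Nat.beq_eq] at hb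
    exact ⟨hr', hw hb.2, fun h => absurd h Bool.false_ne_true, fun _ => hb.1⟩
  · rw [hp] at hb
    simp only [cond_true, Bool.and_eq_true, Bool.or_eq_true, Nat.beq_eq, Nat.ble_eq] at hb
    exact ⟨hr', hw hb.1.2, fun _ => ⟨hb.1.1, hb.2⟩, fun h => absurd h.symm Bool.false_ne_true⟩

theorem invol_rep {c : ℕ} (hc : c < 2048) (hs : Table.sq c = 0) (h0 : c ≠ 0) :
    ∃ r < 2048, ∃ d < 2048, sylF c * sylF d = sylF d * sylF r ∧
      (r = 1 ∨ ∃ t q, (r, t, q) ∈ SylData.conjs) := by
  have h := allBelow_iff.1 Table.cover_ok c hc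
  simp [hs, h0] at h
  obtain ⟨r, d, hx⟩ := h
  have h2 := List.all_eq_true.1 Table.invols_ok _ hx
  simp only [Bool.and_eq_true, Bool.or_eq_true, Nat.beq_eq, Nat.blt, Nat.ble_eq, List.contains_eq_mem,
    decide_eq_true_eq, List.mem_map] at h2
  obtain ⟨⟨⟨hr, hd⟩, he⟩, hcase⟩ := h2
  refine ⟨r, hr, d, hd, by rw [sylF_mul hc, sylF_mul hd, he], hcase.imp id ?_⟩
  rintro ⟨⟨r', t, q⟩, hm, rfl⟩
  exact ⟨t, q, hm⟩

theorem isConj_of_mul {c d r : ℕ} (h : sylF c * sylF d = sylF d * sylF r) : IsConj (sylF r) (sylF c) :=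
  isConj_iff.2 ⟨sylF d, by rw [← h, mul_inv_cancel_right]⟩

theorem class_cases {f : HNSub.F} (hf : f * f = 1) (h1 : f ≠ 1) (hC : f ≠ HNSub.C0) :
    (f ∈ HNSub.G1 ∧ (IsConj eA f ∨ IsConj eB f)) ∨
      (f ∉ HNSub.G1 ∧ ∃ v ∈ good, IsConj (sylF v) f) := by
  obtain ⟨c, hc, h⟩ := exists_conj_sylF (f := f) (k := 1) (by rw [pow_one, pow_two, hf])
  obtain ⟨u, rfl⟩ := isConj_iff.1 h
  have hs : Table.sq c = 0 := by
    refine (sq_eq_one_iff hc).1 ?_
    calc sylF c * sylF c = u⁻¹ * ((u * sylF c * u⁻¹) * (u * sylF c * u⁻¹)) * u := by group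
      _ = 1 := by rw [hf]; group
  have h0 : c ≠ 0 := fun e => h1 (by rw [e, sylF_zero]; group)
  have hp : u * sylF c * u⁻¹ ∈ HNSub.G1 ↔ par c = false := by
    rw [← par_iff]
    refine ⟨fun hm => ?_, fun hm => (inferInstance : HNSub.G1.Normal).conj_mem _ hm u⟩
    have := (inferInstance : HNSub.G1.Normal).conj_mem _ hm u⁻¹
    simpa [mul_assoc] using this
  obtain ⟨r, hr, d, hd, he, hcase⟩ := invol_rep hc hs h0
  have hrc : par r = par c := by
    have h3 := congrArg (· ∈ HNSub.G1) he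
    simp only [mul_mem_G1, par_iff, eq_iff_iff] at h3
    cases hr' : par r <;> cases hc' : par c <;> cases hd' : par d <;> simp_all
  rcases hcase with rfl | ⟨t, q, hm⟩
  · refine absurd ?_ hC
    obtain ⟨w, hw⟩ := isConj_iff.1 ((isConj_of_mul he).trans (isConj_iff.2 ⟨u, rfl⟩))
    rw [sylF_one] at hw
    rw [← hw, Subgroup.mem_center_iff.1 HNSub.C0_central w, mul_inv_cancel_right]
  · obtain ⟨-, hconj, ht, hf'⟩ := conjs_spec hm
    have hall : IsConj (sylF t) (u * sylF c * u⁻¹) :=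
      hconj.trans ((isConj_of_mul he).trans (isConj_iff.2 ⟨u, rfl⟩))
    cases hb : par c
    · refine Or.inl ⟨hp.2 hb, ?_⟩
      rcases hf' (hrc.trans hb) with rfl | rfl
      · exact Or.inl (sylF_two ▸ hall)
      · exact Or.inr (sylF_three ▸ hall)
    · refine Or.inr ⟨fun h => by rw [hp.1 h] at hb; exact Bool.false_ne_true hb, t, ?_, hall⟩
      rcases (ht (hrc.trans hb)).1 with rfl | rfl <;> simp [good]

theorem card_cent (v : ℕ) (hv : v < 2048) :
    Nat.card ↥(SF ⊓ Subgroup.centralizer {sylF v}) = centCard v := by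
  rw [← SetLike.coe_sort_coe, Nat.card_coe_set_eq]
  have hset : ((SF ⊓ Subgroup.centralizer {sylF v} : Subgroup HNSub.F) : Set HNSub.F) =
      sylF '' ↑((Finset.range 2048).filter fun c => Table.comm c v = true) := by
    ext f
    simp only [SetLike.mem_coe, Subgroup.mem_inf, Subgroup.mem_centralizer_singleton_iff, Set.mem_image,
      Finset.coe_filter, Finset.mem_range, Set.mem_ofPred_eq]
    constructor
    · rintro ⟨hf, he⟩
      obtain ⟨c, hc, rfl⟩ := mem_SF_iff.1 hf
      refine ⟨c, ⟨hc, ?_⟩, rfl⟩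
      rw [sylF_mul hc, sylF_mul hv] at he
      simp [Table.comm, sylF_inj (Syl.mulC_lt hc v) (Syl.mulC_lt hv c) he]
    · rintro ⟨c, ⟨hc, he⟩, rfl⟩
      simp only [Table.comm, Nat.beq_eq] at he
      exact ⟨sylF_mem hc, by rw [sylF_mul hc, sylF_mul hv, he]⟩
  rw [hset, Set.ncard_image_of_injOn fun a ha b hb e => sylF_inj
      (Finset.mem_range.1 (Finset.mem_filter.1 ha).1) (Finset.mem_range.1 (Finset.mem_filter.1 hb).1) e,
    Set.ncard_coe_finset, centCard, List.countP_eq_length_filter, Finset.card_def, Finset.filter_val,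
    Finset.range_val, Multiset.range, Multiset.filter_coe, Multiset.coe_card]
  exact congrArg List.length (List.filter_congr fun c _ => by simp)

theorem good_spec {v : ℕ} (hv : v ∈ good) : v < 2048 ∧
    sylF v * sylF v = 1 ∧ sylF v ∉ HNSub.G1 ∧
    Nat.card ↥(SF ⊓ Subgroup.centralizer {sylF v}) = 256 ∧
    (∃ s ∈ SF ⊓ Subgroup.centralizer {sylF v}, s * s = eB) ∧
    IsConj (sylF v) (sylF v * eB) ∧
    ∀ s ∈ SF ⊓ Subgroup.centralizer {sylF v}, (∀ u ∈ SF ⊓ Subgroup.centralizer {sylF v}, u * (s * s) = (s * s) * u) →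
      s * s = 1 ∨ s * s = eB := by
  have h := List.all_eq_true.1 Table.good_ok v hv
  simp only [Bool.and_eq_true, Bool.or_eq_true, Nat.beq_eq] at h
  obtain ⟨⟨⟨⟨⟨⟨hcard, hpar⟩, hsq⟩, h292⟩, hs292⟩, hconj⟩, hall⟩ := h
  have hv' : v < 2048 := by simp only [good, List.mem_cons, List.not_mem_nil, or_false] at hv; omega
  have memC : ∀ {c : ℕ}, c < 2048 → Table.comm c v = true → sylF c ∈ SF ⊓ Subgroup.centralizer {sylF v} := by
    intro c hc he
    simp only [Table.comm, Nat.beq_eq] at he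
    exact ⟨sylF_mem hc, Subgroup.mem_centralizer_singleton_iff.2 (by rw [sylF_mul hc, sylF_mul hv', he])⟩
  refine ⟨hv', (sq_eq_one_iff hv').2 hsq, fun h => by rw [(par_iff v).1 h] at hpar; exact Bool.false_ne_true hpar,
    (card_cent v hv').trans hcard, ⟨sylF 292, memC (by norm_num) h292, ?_⟩, ?_, ?_⟩
  · rw [sylF_mul (by norm_num), ← sylF_three]
    exact congrArg sylF hs292
  · have key : ∀ d < 2048, mulC (mulC v 3) d = mulC d v → IsConj (sylF v) (sylF v * eB) := fun d hd e => by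
      refine isConj_iff.2 ⟨sylF d, ?_⟩
      rw [sylF_mul hd v, ← e, ← sylF_mul (Syl.mulC_lt hv' 3), ← sylF_mul hv', sylF_three, mul_inv_cancel_right]
    rcases hconj with e | e
    exacts [key 218 (by norm_num) e, key 8 (by norm_num) e]
  · intro s hs hcomm
    obtain ⟨c, hc, rfl⟩ := mem_SF_iff.1 hs.1
    have hcv : Table.comm c v = true := by
      have he := Subgroup.mem_centralizer_singleton_iff.1 hs.2
      rw [sylF_mul hc, sylF_mul hv'] at he
      simp [Table.comm, sylF_inj (Syl.mulC_lt hc v) (Syl.mulC_lt hv' c) he]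
    have h3 := allBelow_iff.1 hall c hc
    simp only [force_eq, Bool.or_eq_true, Bool.not_eq_true', Nat.beq_eq, List.any_eq_true, Bool.and_eq_true] at h3
    rw [sylF_mul hc c]
    rcases h3 with h3 | (h3 | h3) | ⟨w, hwm, ⟨hw1, hw2⟩, hw3⟩
    · rw [hcv] at h3; exact absurd h3 (by decide)
    · exact Or.inl (show sylF (Table.sq c) = 1 by rw [h3, sylF_zero])
    · exact Or.inr (show sylF (Table.sq c) = eB by rw [h3, sylF_three])
    · exfalso
      have hwlt : w.2 < 2048 := by
        have : ∀ w ∈ Table.witness, w.2 < 2048 := by decide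
        exact this w hwm
      have e := hcomm _ (memC hwlt hw2)
      rw [sylF_mul hc c, sylF_mul hwlt, sylF_mul (Syl.mulC_lt hc c)] at e
      have e2 := sylF_inj (Syl.mulC_lt hwlt _) (Syl.mulC_lt (Syl.mulC_lt hc c) _) e
      rw [show mulC c c = Table.sq c from rfl] at e2
      rw [← hw1, Table.comm, hw1, e2, Nat.beq_refl] at hw3
      exact absurd hw3 (by decide)

theorem cent_le_256 {v : ℕ} (hv : v ∈ good) {P : Subgroup HNSub.F} (hP : IsPGroup 2 P)
    (hc : P ≤ Subgroup.centralizer {sylF v}) : Nat.card P ≤ 256 := by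
  obtain ⟨hv', hsq, hout, -⟩ := good_spec hv
  let Q : Subgroup HNSub.F := P ⊔ Subgroup.zpowers (sylF v)
  have hnorm : Subgroup.zpowers (sylF v) ≤ Subgroup.normalizer (P : Set HNSub.F) := by
    refine Subgroup.zpowers_le.2 (Subgroup.centralizer_le_normalizer _ ?_)
    intro p hp
    exact Subgroup.mem_centralizer_singleton_iff.1 (hc hp)
  have hQ : IsPGroup 2 Q :=
    hP.to_sup_of_normal_left' (isPGroup_zpowers (k := 1) (by rw [pow_one, pow_two, hsq])) hnorm
  obtain ⟨f, hf⟩ := exists_conj_le hQ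
  obtain ⟨c, hcl, hce⟩ := mem_SF_iff.1 (hf _ (le_sup_right (a := P) (Subgroup.mem_zpowers _)))
  have hcs : Table.sq c = 0 := (sq_eq_one_iff hcl).1 (by
    rw [hce]; calc _ = f * (sylF v * sylF v) * f⁻¹ := by group
      _ = 1 := by rw [hsq]; group)
  have hcp : par c = true := by
    cases hb : par c
    · refine absurd ?_ hout
      have := (inferInstance : HNSub.G1.Normal).conj_mem _ (hce ▸ (par_iff c).2 hb) f⁻¹
      simpa [mul_assoc] using this
    · rfl
  have hc0 : c ≠ 0 := fun e => by rw [e] at hcp; exact absurd hcp (by decide)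
  obtain ⟨r, hr, d, hd, he, hcase⟩ := invol_rep hcl hcs hc0
  have hrp : par r = true := by
    have h3 := congrArg (· ∈ HNSub.G1) he
    simp only [mul_mem_G1, par_iff, eq_iff_iff] at h3
    cases hr' : par r <;> cases hd' : par d <;> simp_all
  rcases hcase with rfl | ⟨t, q, hm⟩
  · exact absurd hrp (by decide +kernel)
  obtain ⟨-, -, ht, -⟩ := conjs_spec hm
  refine le_trans ?_ ((card_cent r hr).le.trans (ht hrp).2)
  refine Nat.card_le_card_of_injective
    (fun p : P => (⟨(sylF d)⁻¹ * (f * p * f⁻¹) * sylF d, ?_, ?_⟩ : ↥(SF ⊓ Subgroup.centralizer {sylF r}))) ?_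
  · exact SF.mul_mem (SF.mul_mem (SF.inv_mem (sylF_mem hd)) (hf _ (le_sup_left (b := Subgroup.zpowers (sylF v)) p.2)))
      (sylF_mem hd)
  · refine Subgroup.mem_centralizer_singleton_iff.2 ?_
    have e1 : (p : HNSub.F) * sylF v = sylF v * p := Subgroup.mem_centralizer_singleton_iff.1 (hc p.2)
    have e2 : sylF r = (sylF d)⁻¹ * (f * sylF v * f⁻¹) * sylF d := by
      rw [← hce, mul_assoc, he, inv_mul_cancel_left]
    rw [e2]
    calc _ = (sylF d)⁻¹ * (f * ((p : HNSub.F) * sylF v) * f⁻¹) * sylF d := by group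
      _ = (sylF d)⁻¹ * (f * (sylF v * p) * f⁻¹) * sylF d := by rw [e1]
      _ = _ := by group
  · intro p q h
    have := congrArg Subtype.val h
    exact Subtype.ext (by simpa using this)

end Cfsg.Agent.Lib.HNType12
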