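import Cfsg.Agent.Lib.HNType12.Twist
import Cfsg.Agent.Lib.ZStar.UniqueCase

/-!
# Fusion of involutions in a group of Harada-Norton type (helper12)

The central involution `t` is never conjugate to `Y³ C0`, the twisted form of the centraliser does not occur,
and `t` is conjugate to `Y³`.
-/

set_option autoImplicit false
set_option maxRecDepth 20000

universe u

namespace Cfsg.Agent.Lib.HNType12

open Cfsg Subgroup
open Cfsg.Agent.Lib.HNType12.Syl (mulC)
open Cfsg.Agent.Lib.HNType12.Table (par sqT roots good)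

/-- Conjugacy of 2-subgroups inside a subgroup in which the second one is largest. -/
theorem exists_conj_mem {G : Type u} [Group G] [Finite G] {C P Q : Subgroup G} (hP : P ≤ C) (hQ : Q ≤ C)
    (hPp : IsPGroup 2 P) (hQp : IsPGroup 2 Q)
    (hmax : ∀ R : Subgroup G, R ≤ C → IsPGroup 2 R → Nat.card R ≤ Nat.card Q) :
    ∃ c ∈ C, ∀ p ∈ P, c * p * c⁻¹ ∈ Q := by
  obtain ⟨SP, hSP⟩ := (hPp.of_equiv (subgroupOfEquivOfLe hP).symm).exists_le_sylow
  obtain ⟨SQ, hSQ⟩ := (hQp.of_equiv (subgroupOfEquivOfLe hQ).symm).exists_le_sylow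
  have heq : Q.subgroupOf C = (SQ : Subgroup C) := by
    refine eq_of_le_of_card_ge hSQ ?_
    have h := hmax ((SQ : Subgroup C).map C.subtype) (map_subtype_le _) (SQ.isPGroup'.map C.subtype)
    rwa [Nat.card_congr ((SQ : Subgroup C).equivMapOfInjective _ C.subtype_injective).toEquiv.symm,
      ← Nat.card_congr (subgroupOfEquivOfLe hQ).toEquiv] at h
  obtain ⟨c, hc⟩ := MulAction.exists_smul_eq C SP SQ
  refine ⟨c, c.2, fun p hp => ?_⟩
  have h : c * (⟨p, hP hp⟩ : C) * c⁻¹ ∈ ((c • SP : Sylow 2 C) : Subgroup C) := ⟨⟨p, hP hp⟩, hSP hp, rfl⟩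
  rw [hc, ← heq] at h
  exact h

theorem SF_commute_eB {f : HNSub.F} (hf : f ∈ SF) : f * eB = eB * f := by
  show f * (eA * HNSub.C0) = eA * HNSub.C0 * f
  rw [← mul_assoc, SF_commute_eA hf, mul_assoc eA, C0_comm f, ← mul_assoc]

theorem C0_mem_SF : HNSub.C0 ∈ SF := sylF_one ▸ sylF_mem (by norm_num)

theorem le_2048 {R : Type u} [Group R] (hR : IsPGroup 2 R) [Finite R] (hd : Nat.card R ∣ 177408000) :
    Nat.card R ≤ 2048 := by
  obtain ⟨k, hk⟩ := hR.exists_card_eq
  rw [hk] at hd ⊢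
  by_contra hlt
  have hk12 : 12 ≤ k := by
    by_contra h
    exact hlt (le_trans (Nat.pow_le_pow_right (by norm_num) (by omega : k ≤ 11)) (by norm_num))
  have : (2 : ℕ) ^ 12 ∣ 177408000 := (Nat.pow_dvd_pow 2 hk12).trans hd
  norm_num at this

namespace Twisted

variable {G : Type u} [Group G] {t : G} (T : Twisted t)

/-- The image of the Sylow subgroup. -/
noncomputable abbrev syl : Subgroup G := T.img SF C0_mem_SF

theorem isPGroup_syl : IsPGroup 2 T.syl :=
  IsPGroup.of_card (n := 11) (by rw [T.card_img, card_SF]; norm_num)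

theorem max_syl [Finite G] (R : Subgroup G) (hR : R ≤ centralizer {t}) (hp : IsPGroup 2 R) :
    Nat.card R ≤ Nat.card T.syl := by
  rw [T.card_img, card_SF]
  exact le_2048 hp (T.card_centralizer ▸ card_dvd_of_le hR)

theorem sq_sylF {c : ℕ} (hc : c < 2048) : T.Φ (sylF c) * T.Φ (sylF c) = T.Φ (sylF (sqT T.τ c)) := by
  have hm : sylF c * sylF c = sylF (Table.sq c) := sylF_mul hc c
  rw [T.mul]
  congr 1
  unfold tw sqT
  cases hb : par c
  · rw [Bool.and_false, cond_false, if_neg fun h => h.2.1 ((par_iff c).2 hb), hm]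
  · have hn : sylF c ∉ HNSub.G1 := fun h => Bool.false_ne_true (((par_iff c).1 h).symm.trans hb)
    cases hτ : T.τ
    · rw [Bool.false_and, cond_false, if_neg fun h => Bool.false_ne_true h.1, hm]
    · rw [Bool.true_and, cond_true, if_pos ⟨rfl, hn, hn⟩, CosetEnum.force_eq, hm, ← sylF_one,
        sylF_mul (c := Table.sq c) (Syl.mulC_lt hc c)]

theorem card_roots {e : ℕ} (he : e < 2048) :
    {s : G | s ∈ T.syl ∧ s * s = T.Φ (sylF e)}.ncard = roots T.τ e := by
  have hlt : ∀ c < 2048, sqT T.τ c < 2048 := fun c hc => by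
    unfold sqT
    cases (T.τ && par c)
    · exact Syl.mulC_lt hc c
    · rw [cond_true, CosetEnum.force_eq]
      exact Syl.mulC_lt (Syl.mulC_lt hc c) 1
  have hset : {s : G | s ∈ T.syl ∧ s * s = T.Φ (sylF e)} =
      (fun c => T.Φ (sylF c)) '' ↑((Finset.range 2048).filter fun c => sqT T.τ c = e) := by
    ext s
    simp only [Set.mem_ofPred_eq, Set.mem_image, Finset.coe_filter, Finset.mem_range]
    constructor
    · rintro ⟨⟨f, hf, rfl⟩, h⟩
      obtain ⟨c, hc, rfl⟩ := mem_SF_iff.1 hf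
      rw [T.sq_sylF hc] at h
      exact ⟨c, ⟨hc, sylF_inj (hlt c hc) he (T.inj h)⟩, rfl⟩
    · rintro ⟨c, ⟨hc, h⟩, rfl⟩
      exact ⟨T.mem_img (sylF_mem hc), by rw [T.sq_sylF hc, h]⟩
  rw [hset, Set.ncard_image_of_injOn fun a ha b hb h => sylF_inj
      (Finset.mem_range.1 (Finset.mem_filter.1 ha).1) (Finset.mem_range.1 (Finset.mem_filter.1 hb).1) (T.inj h),
    Set.ncard_coe_finset, roots, List.countP_eq_length_filter, Finset.card_def, Finset.filter_val,
    Finset.range_val, Multiset.range, Multiset.filter_coe, Multiset.coe_card]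
  exact congrArg List.length (List.filter_congr fun c _ => by rw [Bool.eq_iff_iff]; simp)

theorem not_isConj_central [Finite G] {e : ℕ} (he : e < 2048) (hcomm : ∀ s ∈ SF, s * sylF e = sylF e * s)
    (hne : roots T.τ e ≠ roots T.τ 1) : ¬ IsConj t (T.Φ (sylF e)) := by
  intro h
  obtain ⟨g, hg⟩ := isConj_iff.1 h
  have hle : T.syl.map (MulAut.conj g⁻¹).toMonoidHom ≤ centralizer {t} := by
    rintro _ ⟨_, ⟨f, hf, rfl⟩, rfl⟩
    refine mem_centralizer_singleton_iff.2 ?_
    have e1 := T.commute_map (hcomm f hf)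
    show g⁻¹ * T.Φ f * g⁻¹⁻¹ * t = t * (g⁻¹ * T.Φ f * g⁻¹⁻¹)
    calc _ = g⁻¹ * (T.Φ f * (g * t * g⁻¹)) * g := by group
      _ = g⁻¹ * (T.Φ f * T.Φ (sylF e)) * g := by rw [hg]
      _ = g⁻¹ * (T.Φ (sylF e) * T.Φ f) * g := by rw [e1]
      _ = g⁻¹ * ((g * t * g⁻¹) * T.Φ f) * g := by rw [hg]
      _ = _ := by group
  obtain ⟨c, hc, hmap⟩ := exists_conj_mem hle (T.img_le _ _) (T.isPGroup_syl.map _) T.isPGroup_syl T.max_syl
  set k := c * g⁻¹ with hk
  have hk1 : k * T.Φ (sylF e) * k⁻¹ = t := by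
    rw [hk, ← hg]
    calc _ = c * t * c⁻¹ := by group
      _ = t := by rw [mem_centralizer_singleton_iff.1 hc, mul_inv_cancel_right]
  have hkT : T.syl.map (MulAut.conj k).toMonoidHom = T.syl := by
    refine eq_of_le_of_card_ge ?_ ?_
    · rintro _ ⟨s, hs, rfl⟩
      have := hmap _ ⟨s, hs, rfl⟩
      simpa [hk, mul_assoc] using this
    · rw [Nat.card_congr (T.syl.equivMapOfInjective _ (MulAut.conj k).injective).toEquiv.symm]
  refine hne ?_
  rw [← T.card_roots he, ← T.card_roots (by norm_num : 1 < 2048), sylF_one, T.map_C0]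
  refine Set.ncard_congr (fun s _ => k * s * k⁻¹) ?_ ?_ ?_
  · rintro s ⟨hs, hss⟩
    refine ⟨?_, ?_⟩
    · have hm := mem_map_of_mem (MulAut.conj k).toMonoidHom hs
      rw [hkT] at hm
      exact hm
    · calc _ = k * (s * s) * k⁻¹ := by group
        _ = t := by rw [hss, hk1]
  · intro a b _ _ h
    simpa using h
  · rintro s ⟨hs, hss⟩
    obtain ⟨r, hr, rfl⟩ : s ∈ T.syl.map (MulAut.conj k).toMonoidHom := by rw [hkT]; exact hs
    refine ⟨r, ⟨hr, ?_⟩, rfl⟩
    have hss' : k * (r * r) * k⁻¹ = k * T.Φ (sylF e) * k⁻¹ := by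
      rw [hk1, ← hss]
      show _ = k * r * k⁻¹ * (k * r * k⁻¹)
      group
    simpa using hss'

theorem roots_facts : roots false 3 ≠ roots false 1 ∧ roots true 2 ≠ roots true 1 ∧ roots true 3 ≠ roots true 1 := by
  have h := Table.roots_ok
  simp only [Bool.and_eq_true, Nat.beq_eq] at h
  obtain ⟨⟨⟨⟨h1, h3⟩, h4⟩, h5⟩, h6⟩ := h
  omega

theorem not_conjB [Finite G] : ¬ IsConj t (T.Φ eB) := by
  rw [← sylF_three]
  refine T.not_isConj_central (by norm_num) (fun s hs => ?_) ?_
  · rw [sylF_three, SF_commute_eB hs]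
  · cases T.τ
    exacts [roots_facts.1, roots_facts.2.2]

/-- A central involution is not isolated. -/
theorem not_isolated [Finite G] [IsSimpleGroup G] (ht : orderOf t = 2)
    (hiso : ∀ g : G, g * t * g⁻¹ ∈ centralizer {t} → g * t * g⁻¹ = t) (T : Twisted t) : False := by
  obtain ⟨P, hP⟩ := T.isPGroup_syl.exists_le_sylow
  have htS : t ∈ T.syl := by
    have := T.mem_img (hK := C0_mem_SF) C0_mem_SF
    rwa [T.map_C0] at this
  have hPC : (P : Subgroup G) ≤ centralizer {t} := by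
    have hsub : (T.syl).subgroupOf P = ⊤ := by
      by_contra hne
      haveI : Group.IsNilpotent (P : Subgroup G) := P.isPGroup'.isNilpotent
      have hlt := normalizerCondition_of_isNilpotent (G := (P : Subgroup G)) _ (lt_top_iff_ne_top.2 hne)
      obtain ⟨⟨k, hkP⟩, hkN, hk⟩ := SetLike.exists_of_lt hlt
      have hkt : k * t * k⁻¹ ∈ T.syl := ((mem_normalizer_iff.1 hkN) ⟨t, hP htS⟩).1 htS
      have hkC : k ∈ centralizer ({t} : Set G) := by
        refine mem_centralizer_singleton_iff.2 ?_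
        conv_rhs => rw [← hiso k (T.img_le _ _ hkt)]
        group
      refine hk ?_
      have heq : T.syl = (P : Subgroup G) ⊓ centralizer {t} :=
        eq_of_le_of_card_ge (le_inf hP (T.img_le _ _))
          (T.max_syl _ inf_le_right (P.isPGroup'.to_le inf_le_left))
      rw [mem_subgroupOf, heq]
      exact ⟨hkP, hkC⟩
    exact fun p hp => T.img_le _ _ ((subgroupOf_eq_top.1 hsub) hp)
  obtain ⟨N, hN, hodd, hcomm⟩ := ZStar.UniqueCase.zstar P t ht (hP htS) fun g hg => hiso g (hPC hg)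
  have hbot : N = ⊥ := hN.eq_bot_or_eq_top.resolve_right fun h => by
    rw [h, Subgroup.card_top] at hodd
    exact (Nat.not_even_iff_odd.2 hodd) (even_iff_two_dvd.2 (ht ▸ orderOf_dvd_natCard t))
  have hc : ∀ g : G, t * g = g * t := fun g => by
    have := hcomm g
    rw [hbot, mem_bot, mul_inv_eq_one, mul_inv_eq_iff_eq_mul] at this
    exact this
  have hcard := T.card_centralizer
  have htop : centralizer ({t} : Set G) = ⊤ :=
    eq_top_iff.2 fun g _ => mem_centralizer_singleton_iff.2 (hc g).symm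
  have hN2 : (zpowers t).Normal := ⟨fun n hn g => by
    obtain ⟨i, rfl⟩ := mem_zpowers_iff.1 hn
    rw [show g * t ^ i = t ^ i * g from ((show Commute t g from hc g).zpow_left i).symm, mul_inv_cancel_right]
    exact zpow_mem (mem_zpowers t) i⟩
  rcases hN2.eq_bot_or_eq_top with h | h
  · rw [zpowers_eq_bot] at h
    rw [h, orderOf_one] at ht
    omega
  · have h2 := Nat.card_zpowers t
    rw [h, Subgroup.card_top, ht] at h2
    rw [htop, Subgroup.card_top, h2] at hcard
    omega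

theorem Φ_sq_outer {f : HNSub.F} (hf : f ∉ HNSub.G1) (hτ : T.τ = true) : T.Φ f * T.Φ f ≠ 1 := by
  intro h
  rw [T.mul, ← T.map_one] at h
  have h' := T.inj h
  rw [tw, if_pos ⟨hτ, hf, hf⟩] at h'
  refine no_outer_sq hf ?_
  rw [eq_inv_of_mul_eq_one_left h', inv_eq_of_mul_eq_one_right HNSub.C0_sq]

theorem not_twisted [Finite G] [IsSimpleGroup G] (ht : orderOf t = 2) : T.τ = false := by
  by_contra hτ
  rw [Bool.not_eq_false] at hτ
  refine not_isolated ht (fun g hg => ?_) T
  obtain ⟨f, hf⟩ := T.surj _ hg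
  have hconj : IsConj t (T.Φ f) := isConj_iff.2 ⟨g, hf.symm⟩
  have hsq : T.Φ f * T.Φ f = 1 := by
    rw [hf, show g * t * g⁻¹ * (g * t * g⁻¹) = g * (t * t) * g⁻¹ by group, ← pow_two, ← ht, pow_orderOf_eq_one]
    group
  have hf1 : f ∈ HNSub.G1 := by
    by_contra hn
    exact T.Φ_sq_outer hn hτ hsq
  rw [T.mul_left hf1, ← T.map_one] at hsq
  by_cases hC : f = HNSub.C0
  · rw [← hf, hC, T.map_C0]
  · exfalso
    have hne : f ≠ 1 := fun h => by
      rw [h, T.map_one] at hf
      have h1 : t = 1 := by simpa using hf.symm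
      rw [h1, orderOf_one] at ht
      omega
    rcases class_cases (T.inj hsq) hne hC with ⟨-, h | h⟩ | ⟨h, -⟩
    · refine T.not_isConj_central (e := 2) (by norm_num) (fun s hs => ?_) (hτ ▸ roots_facts.2.1) ?_
      · rw [sylF_two]; exact SF_commute_eA hs
      · rw [sylF_two]; exact hconj.trans (T.isConj_map h).symm
    · exact T.not_conjB (hconj.trans (T.isConj_map h).symm)
    · exact h hf1

/-- The untwisted copy is a homomorphism. -/
noncomputable def hom (hτ : T.τ = false) : HNSub.F →* G :=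
  MonoidHom.mk' T.Φ fun a b => by rw [T.mul, hτ, tw_false]

theorem hom_apply (hτ : T.τ = false) (f : HNSub.F) : T.hom hτ f = T.Φ f := rfl

theorem conjA [Finite G] [IsSimpleGroup G] (ht : orderOf t = 2) (hτ : T.τ = false) : IsConj t (T.Φ eA) := by
  by_contra hA
  have ht1 : t ≠ 1 := fun h => by rw [h, orderOf_one] at ht; omega
  set φ := T.hom hτ with hφ
  have htt : t * t = 1 := by rw [← pow_two, ← ht, pow_orderOf_eq_one]
  -- every conjugate of `t` in its centraliser other than itself is an outer involution of a standard shape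
  have houter : ∀ g : G, g * t * g⁻¹ ∈ centralizer {t} → g * t * g⁻¹ ≠ t →
      ∃ h ∈ centralizer ({t} : Set G), ∃ v ∈ good, h * (g * t * g⁻¹) * h⁻¹ = φ (sylF v) := by
    intro g hg hne
    obtain ⟨f, hf⟩ := T.surj _ hg
    have hconj : IsConj t (φ f) := isConj_iff.2 ⟨g, hf.symm⟩
    have hff : f * f = 1 := T.inj (show φ (f * f) = T.Φ 1 by
      rw [map_mul, hom_apply, T.map_one, hf, show g * t * g⁻¹ * (g * t * g⁻¹) = g * (t * t) * g⁻¹ by group, htt]
      group)
    have hf1 : f ≠ 1 := fun h => by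
      rw [h, T.map_one] at hf
      exact ht1 (by simpa using hf.symm)
    rcases class_cases hff hf1 (fun h => hne (by rw [← hf, h, T.map_C0])) with ⟨-, h | h⟩ | ⟨-, v, hv, h⟩
    · exact absurd (hconj.trans (T.isConj_map h).symm) hA
    · exact absurd (hconj.trans (T.isConj_map h).symm) T.not_conjB
    · obtain ⟨u, rfl⟩ := isConj_iff.1 h
      refine ⟨φ u⁻¹, T.mem _, v, hv, ?_⟩
      rw [← hf, ← hom_apply T hτ, ← map_inv, ← map_mul, ← map_mul]
      exact congrArg φ (by group)
  obtain ⟨v, hv, hvt⟩ : ∃ v ∈ good, IsConj t (φ (sylF v)) := by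
    by_contra hall
    push Not at hall
    refine not_isolated ht (fun g hg => ?_) T
    by_contra hne
    obtain ⟨h, -, v, hv, hh⟩ := houter g hg hne
    exact hall v hv (isConj_iff.2 ⟨h * g, by rw [← hh]; group⟩)
  obtain ⟨hvlt, hv2, hvout, hvcard, ⟨s, hs, hss⟩, hvB, -⟩ := good_spec hv
  have hv_ne : φ (sylF v) ≠ t := fun h => hvout (by
    rw [T.inj (h.trans T.map_C0.symm)]; exact C0_mem_G1)
  obtain ⟨g, hg⟩ := isConj_iff.1 hvt.symm
  set w := g * t * g⁻¹ with hw
  have hvtc : φ (sylF v) * t = t * φ (sylF v) := mem_centralizer_singleton_iff.1 (T.mem _)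
  have hwC : w ∈ centralizer ({t} : Set G) := by
    refine mem_centralizer_singleton_iff.2 ?_
    calc w * t = g * t * g⁻¹ * (g * φ (sylF v) * g⁻¹) := by rw [hg]
      _ = g * (t * φ (sylF v)) * g⁻¹ := by group
      _ = g * (φ (sylF v) * t) * g⁻¹ := by rw [hvtc]
      _ = (g * φ (sylF v) * g⁻¹) * (g * t * g⁻¹) := by group
      _ = t * w := by rw [hg]
  have hwne : w ≠ t := fun h => hv_ne (by
    have := hg.trans h.symm
    rw [hw] at this
    exact mul_left_cancel (mul_right_cancel this))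
  obtain ⟨h, hh, v', hv', hhw⟩ := houter g hwC hwne
  obtain ⟨hv'lt, hv'2, hv'out, hv'card, -, hv'B, hv'sq⟩ := good_spec hv'
  set k := h * g with hk
  have hkv : k * φ (sylF v) * k⁻¹ = t := by
    rw [hk]
    calc _ = h * (g * φ (sylF v) * g⁻¹) * h⁻¹ := by group
      _ = h * t * h⁻¹ := by rw [hg]
      _ = t := by rw [mem_centralizer_singleton_iff.1 hh, mul_inv_cancel_right]
  have hkt : k * t * k⁻¹ = φ (sylF v') := by rw [← hhw, hk]; group
  let P : Subgroup G := (SF ⊓ centralizer {sylF v}).map φ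
  let P' : Subgroup G := (SF ⊓ centralizer {sylF v'}).map φ
  let C2 : Subgroup G := centralizer {t} ⊓ centralizer {φ (sylF v')}
  have hinj : Function.Injective φ := T.inj
  have hcardP : ∀ K : Subgroup HNSub.F, Nat.card (K.map φ) = Nat.card K := fun K =>
    (Nat.card_congr (K.equivMapOfInjective φ hinj).toEquiv).symm
  have hPle : ∀ u : HNSub.F, (SF ⊓ centralizer {u}).map φ ≤ centralizer {t} ⊓ centralizer {φ u} := by
    rintro u _ ⟨f, hf, rfl⟩
    refine ⟨T.mem f, mem_centralizer_singleton_iff.2 ?_⟩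
    rw [← map_mul, ← map_mul, mem_centralizer_singleton_iff.1 hf.2]
  have hP' : IsPGroup 2 P' := IsPGroup.of_card (n := 8) (by rw [hcardP, hv'card]; norm_num)
  have hP : IsPGroup 2 P := IsPGroup.of_card (n := 8) (by rw [hcardP, hvcard]; norm_num)
  have hkP : P.map (MulAut.conj k).toMonoidHom ≤ C2 := by
    rintro _ ⟨p, hp, rfl⟩
    have h1 := mem_centralizer_singleton_iff.1 (hPle _ hp).1
    have h2 := mem_centralizer_singleton_iff.1 (hPle _ hp).2
    refine ⟨mem_centralizer_singleton_iff.2 ?_, mem_centralizer_singleton_iff.2 ?_⟩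
    · show k * p * k⁻¹ * t = t * (k * p * k⁻¹)
      rw [← hkv]
      calc _ = k * (p * φ (sylF v)) * k⁻¹ := by group
        _ = k * (φ (sylF v) * p) * k⁻¹ := by rw [h2]
        _ = _ := by group
    · show k * p * k⁻¹ * φ (sylF v') = φ (sylF v') * (k * p * k⁻¹)
      rw [← hkt]
      calc _ = k * (p * t) * k⁻¹ := by group
        _ = k * (t * p) * k⁻¹ := by rw [h1]
        _ = _ := by group
  obtain ⟨c, hc, hcmem⟩ := exists_conj_mem (C := C2) hkP (hPle _) (hP.map _) hP' (fun R hR hRp => by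
    have hrange : R ≤ φ.range := fun x hx => by
      obtain ⟨f, hf⟩ := T.surj x (hR hx).1
      exact ⟨f, hf⟩
    rw [← map_comap_eq_self hrange, hcardP, hcardP, hv'card]
    refine cent_le_256 hv' (hRp.comap_of_injective φ hinj) fun f hf => mem_centralizer_singleton_iff.2 (hinj ?_)
    rw [map_mul, map_mul]
    exact mem_centralizer_singleton_iff.1 (hR hf).2)
  set m := c * k with hm
  have hmv : m * φ (sylF v) * m⁻¹ = t := by
    rw [hm]
    calc _ = c * (k * φ (sylF v) * k⁻¹) * c⁻¹ := by group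
      _ = c * t * c⁻¹ := by rw [hkv]
      _ = t := by rw [mem_centralizer_singleton_iff.1 hc.1, mul_inv_cancel_right]
  have hmt : m * t * m⁻¹ = φ (sylF v') := by
    rw [hm]
    calc _ = c * (k * t * k⁻¹) * c⁻¹ := by group
      _ = c * φ (sylF v') * c⁻¹ := by rw [hkt]
      _ = φ (sylF v') := by rw [mem_centralizer_singleton_iff.1 hc.2, mul_inv_cancel_right]
  have hmP : P.map (MulAut.conj m).toMonoidHom = P' := by
    refine eq_of_le_of_card_ge ?_ ?_
    · rintro _ ⟨p, hp, rfl⟩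
      have e : (MulAut.conj m).toMonoidHom p = c * (MulAut.conj k).toMonoidHom p * c⁻¹ := by
        simp [hm, mul_assoc]
      rw [e]
      exact hcmem _ ⟨p, hp, rfl⟩
    · rw [← Nat.card_congr (P.equivMapOfInjective _ (MulAut.conj m).injective).toEquiv, hcardP, hcardP, hvcard,
        hv'card]
  have hS : ∀ p ∈ P, m * p * m⁻¹ ∈ P' := fun p hp => hmP ▸ ⟨p, hp, rfl⟩
  obtain ⟨s', hs', hs'e⟩ := hS (φ s) ⟨s, hs, rfl⟩
  have hcentral : ∀ u ∈ SF ⊓ centralizer {sylF v'}, u * (s' * s') = (s' * s') * u := by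
    intro u hu
    obtain ⟨_, ⟨p, hp, rfl⟩, hpe⟩ : φ u ∈ P.map (MulAut.conj m).toMonoidHom := hmP ▸ ⟨u, hu, rfl⟩
    refine hinj ?_
    rw [map_mul, map_mul _ (s' * s') u, map_mul _ s' s', hs'e, ← hpe]
    show m * φ p * m⁻¹ * (m * φ s * m⁻¹ * (m * φ s * m⁻¹)) = m * φ s * m⁻¹ * (m * φ s * m⁻¹) * (m * φ p * m⁻¹)
    calc _ = m * (φ (p * (s * s))) * m⁻¹ := by rw [map_mul, map_mul]; group
      _ = m * (φ ((s * s) * p)) * m⁻¹ := by
          rw [hss, SF_commute_eB hp.1]
      _ = _ := by rw [map_mul, map_mul]; group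
  have heB : eB ≠ 1 := fun h => by
    rw [← sylF_three, ← sylF_zero] at h
    exact absurd (sylF_inj (by norm_num) (by norm_num) h) (by norm_num)
  have hs2 : φ (s' * s') = m * φ eB * m⁻¹ := by
    rw [map_mul, hs'e, ← hss, map_mul]
    group
  have hs'sq : s' * s' = eB := (hv'sq s' hs' hcentral).resolve_left fun h => by
    rw [h, _root_.map_one] at hs2
    exact heB (hinj (by rw [_root_.map_one]; simpa using hs2.symm))
  rw [hs'sq] at hs2
  have heA : HNSub.C0 * eB = eA := by rw [eB, ← mul_assoc, ← C0_comm, mul_assoc, HNSub.C0_sq, mul_one]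
  refine hA ?_
  have h2 : IsConj (φ eA) (φ (sylF v') * φ eB) := isConj_iff.2 ⟨m, by
    rw [← heA, map_mul, show φ HNSub.C0 = t from T.map_C0, ← hmt]
    conv_rhs => rw [hs2]
    group⟩
  refine (IsConj.trans (?_ : IsConj t (φ (sylF v'))) ((T.isConj_map hv'B).trans ?_)).trans h2.symm
  · exact isConj_iff.2 ⟨m, hmt⟩
  · rw [← map_mul]
    exact IsConj.refl _

end Twisted

/-- Blocks A and B. -/
theorem propModel : PropModel.{u} := by
  intro G _ _ _ t ht M _ hM hout hcov
  obtain ⟨T⟩ := exists_twisted t ht M hM hout hcov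
  have hτ := T.not_twisted ht
  exact ⟨{ φ := T.hom hτ, inj := T.inj, map_C0 := T.map_C0
           range_eq := le_antisymm (by rintro _ ⟨f, rfl⟩; exact T.mem f)
             fun g hg => by obtain ⟨f, hf⟩ := T.surj g hg; exact ⟨f, hf⟩ },
    ⟨T.conjA ht hτ, T.not_conjB⟩⟩

end Cfsg.Agent.Lib.HNType12
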