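import Cfsg.Agent.Lib.HNType12.Syl
import Cfsg.Agent.Lib.HNType12.Equiv

/-!
# Checks on the Sylow table: square roots, involutions, centralisers of outer involutions (helper12)
-/

set_option autoImplicit false
set_option maxRecDepth 20000
set_option Elab.async false

namespace Cfsg.Agent.Lib.HNType12.Table

open Cfsg.Agent.Lib.CosetEnum Cfsg.Agent.Lib.ExactCover
open Cfsg.Agent.Lib.HNType12 (zpar)
open Cfsg.Agent.Lib.HNType12.Syl

/-- The parity of an element. -/
noncomputable def par (c : ℕ) : Bool :=
  Nat.rec false (fun i acc => bif c.testBit i then xor acc (zpar (gw i)) else acc) 11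

/-- The word of an element. -/
noncomputable def wordK : ℕ → ℕ → List ℕ
  | 0, _ => []
  | k + 1, c => bif c.testBit k then wordK k c ++ gw k else wordK k c

/-- The square. -/
noncomputable def sq (c : ℕ) : ℕ := mulC c c

/-- The square in the group with outer squares twisted by the central involution. -/
noncomputable def sqT (τ : Bool) (c : ℕ) : ℕ :=
  bif τ && par c then force (sq c) (fun s => mulC s 1) else sq c

/-- The number of square roots. -/
noncomputable def roots (τ : Bool) (e : ℕ) : ℕ := (List.range 2048).countP fun c => Nat.beq (sqT τ c) e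

/-- Commuting. -/
noncomputable def comm (c v : ℕ) : Bool := Nat.beq (mulC c v) (mulC v c)

/-- The order of a centraliser in the subgroup. -/
noncomputable def centCard (v : ℕ) : ℕ := (List.range 2048).countP fun c => comm c v

/-- The two standard outer involutions. -/
def good : List ℕ := [8, 212]

/-- Elements not commuting with given squares. -/
def witness : List (ℕ × ℕ) :=
  [(24, 1088), (27, 1088), (261, 32), (262, 32), (285, 32), (286, 32), (25, 1024), (26, 1024),
   (236, 260), (239, 260), (245, 260), (246, 260)]

theorem words_ok : (decide (gw 0 = [0, 0]) && decide (gw 1 = [2, 2, 2])) = true := by decide +kernel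

theorem roots_ok : (Nat.beq (roots false 1) 80 && Nat.beq (roots false 3) 112 && Nat.beq (roots true 1) 288 &&
    Nat.beq (roots true 2) 96 && Nat.beq (roots true 3) 96) = true := by decide +kernel

theorem central_ok : (Nat.beq (mulC 2 1) 3 && allBelow 2048 fun c => comm c 2) = true := by decide +kernel

theorem outer_root_ok : (allBelow 2048 fun c => !(par c && Nat.beq (sq c) 1)) = true := by decide +kernel

theorem conjs_ok : (SylData.conjs.all fun x =>
    Nat.blt x.1 2048 && HNP.okWord x.2.2 &&
    bif par x.1 then (Nat.beq x.2.1 8 || Nat.beq x.2.1 212) &&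
        HNP.wordEq (ExactCover.invWord x.2.2 ++ wordK 11 x.2.1 ++ x.2.2) (wordK 11 x.1) && Nat.ble (centCard x.1) 256
      else (Nat.beq x.2.1 2 || Nat.beq x.2.1 3) &&
        HNP.wordEq (ExactCover.invWord x.2.2 ++ wordK 11 x.2.1 ++ x.2.2) (wordK 11 x.1)) = true := by
  decide +kernel

theorem invols_ok : (SylData.invols.all fun x =>
    Nat.blt x.2.1 2048 && Nat.blt x.2.2 2048 && Nat.beq (mulC x.1 x.2.2) (mulC x.2.2 x.2.1) &&
      (Nat.beq x.2.1 1 || (SylData.conjs.map Prod.fst).contains x.2.1)) = true := by
  decide +kernel

theorem cover_ok : (allBelow 2048 fun c => !(Nat.beq (sq c) 0) || Nat.beq c 0 ||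
    (SylData.invols.map Prod.fst).contains c) = true := by
  decide +kernel

theorem good_ok : (good.all fun v => Nat.beq (centCard v) 256 && par v && Nat.beq (sq v) 0 &&
    comm 292 v && Nat.beq (sq 292) 3 &&
    (Nat.beq (mulC (mulC v 3) 218) (mulC 218 v) || Nat.beq (mulC (mulC v 3) 8) (mulC 8 v)) &&
    allBelow 2048 fun c => !(comm c v) || force (sq c) fun k => Nat.beq k 0 || Nat.beq k 3 ||
      witness.any fun w => Nat.beq w.1 k && comm w.2 v && !(comm k w.2)) = true := by
  decide +kernel

end Cfsg.Agent.Lib.HNType12.Table
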