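import Cfsg.Agent.Lib.HNType12.Cover
import Cfsg.Agent.Lib.HNType12.Facts

/-!
# The centraliser as a possibly twisted copy of the group on `x, y, z` (helper12)
-/

set_option autoImplicit false
set_option maxRecDepth 20000

universe u

namespace Cfsg.Agent.Lib.HNType12

open Cfsg Subgroup

/-- The product, with products of two outer elements twisted by the central involution when `τ` holds. -/
noncomputable def tw (τ : Bool) (a b : HNSub.F) : HNSub.F :=
  open Classical in if τ = true ∧ a ∉ HNSub.G1 ∧ b ∉ HNSub.G1 then a * b * HNSub.C0 else a * b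

theorem C0_comm (f : HNSub.F) : f * HNSub.C0 = HNSub.C0 * f :=
  mem_center_iff.1 HNSub.C0_central f

theorem C0_mem_G1 : HNSub.C0 ∈ HNSub.G1 := HNSub.G1.pow_mem HNSub.X_mem 2

theorem tw_of_left {τ : Bool} {a b : HNSub.F} (ha : a ∈ HNSub.G1) : tw τ a b = a * b :=
  if_neg fun h => h.2.1 ha

theorem tw_of_right {τ : Bool} {a b : HNSub.F} (hb : b ∈ HNSub.G1) : tw τ a b = a * b :=
  if_neg fun h => h.2.2 hb

theorem tw_false (a b : HNSub.F) : tw false a b = a * b := if_neg fun h => Bool.false_ne_true h.1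

/-- The centraliser of `t` as a copy of `F` up to the twist. -/
structure Twisted {G : Type u} [Group G] (t : G) where
  /-- whether the product is twisted -/
  τ : Bool
  /-- the bijection -/
  Φ : HNSub.F → G
  inj : Function.Injective Φ
  mem : ∀ f, Φ f ∈ centralizer ({t} : Set G)
  surj : ∀ g ∈ centralizer ({t} : Set G), ∃ f, Φ f = g
  map_C0 : Φ HNSub.C0 = t
  mul : ∀ a b, Φ a * Φ b = Φ (tw τ a b)

namespace Twisted

variable {G : Type u} [Group G] {t : G} (T : Twisted t)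

theorem map_one : T.Φ 1 = 1 := by
  have h := T.mul 1 1
  rw [tw_of_left (one_mem _), one_mul] at h
  exact mul_eq_right.1 h

theorem mul_left {a : HNSub.F} (ha : a ∈ HNSub.G1) (b : HNSub.F) : T.Φ a * T.Φ b = T.Φ (a * b) := by
  rw [T.mul, tw_of_left ha]

theorem mul_right {b : HNSub.F} (a : HNSub.F) (hb : b ∈ HNSub.G1) : T.Φ a * T.Φ b = T.Φ (a * b) := by
  rw [T.mul, tw_of_right hb]

theorem conj_map (u f : HNSub.F) : T.Φ u * T.Φ f * (T.Φ u)⁻¹ = T.Φ (u * f * u⁻¹) := by
  rw [mul_inv_eq_iff_eq_mul, T.mul, T.mul]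
  congr 1
  have h : u * f * u⁻¹ ∈ HNSub.G1 ↔ f ∈ HNSub.G1 :=
    ⟨fun h => by simpa [mul_assoc] using (inferInstance : HNSub.G1.Normal).conj_mem _ h u⁻¹,
      fun h => (inferInstance : HNSub.G1.Normal).conj_mem _ h u⟩
  unfold tw
  by_cases hc : T.τ = true ∧ u ∉ HNSub.G1 ∧ f ∉ HNSub.G1
  · rw [if_pos hc, if_pos ⟨hc.1, fun h' => hc.2.2 (h.1 h'), hc.2.1⟩, inv_mul_cancel_right]
  · rw [if_neg hc, if_neg fun h' => hc ⟨h'.1, h'.2.2, fun h2 => h'.2.1 (h.2 h2)⟩, inv_mul_cancel_right]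

theorem isConj_map {u f : HNSub.F} (h : IsConj u f) : IsConj (T.Φ u) (T.Φ f) := by
  obtain ⟨c, rfl⟩ := isConj_iff.1 h
  exact isConj_iff.2 ⟨T.Φ c, T.conj_map c u⟩

theorem commute_map {a b : HNSub.F} (h : a * b = b * a) : T.Φ a * T.Φ b = T.Φ b * T.Φ a := by
  rw [T.mul, T.mul]
  unfold tw
  by_cases hc : T.τ = true ∧ a ∉ HNSub.G1 ∧ b ∉ HNSub.G1
  · rw [if_pos hc, if_pos ⟨hc.1, hc.2.2, hc.2.1⟩, h]
  · rw [if_neg hc, if_neg fun h' => hc ⟨h'.1, h'.2.2, h'.2.1⟩, h]

theorem tw_mem {K : Subgroup HNSub.F} (hK : HNSub.C0 ∈ K) {a b : HNSub.F} (ha : a ∈ K) (hb : b ∈ K) :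
    tw T.τ a b ∈ K := by
  unfold tw
  split
  exacts [K.mul_mem (K.mul_mem ha hb) hK, K.mul_mem ha hb]

/-- The image of a subgroup containing the central involution. -/
noncomputable def img (K : Subgroup HNSub.F) (hK : HNSub.C0 ∈ K) : Subgroup G where
  carrier := T.Φ '' K
  one_mem' := ⟨1, K.one_mem, T.map_one⟩
  mul_mem' := by
    rintro _ _ ⟨a, ha, rfl⟩ ⟨b, hb, rfl⟩
    exact ⟨_, T.tw_mem hK ha hb, (T.mul a b).symm⟩
  inv_mem' := by
    rintro _ ⟨a, ha, rfl⟩
    by_cases hc : T.τ = true ∧ a ∉ HNSub.G1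
    · refine ⟨a⁻¹ * HNSub.C0, K.mul_mem (K.inv_mem ha) hK, eq_inv_of_mul_eq_one_right ?_⟩
      rw [T.mul]
      unfold tw
      rw [if_pos ⟨hc.1, hc.2, fun h => hc.2 ((inv_mem_iff).1 ((HNSub.G1.mul_mem_cancel_right C0_mem_G1).1 h))⟩,
        mul_inv_cancel_left, HNSub.C0_sq, T.map_one]
    · refine ⟨a⁻¹, K.inv_mem ha, eq_inv_of_mul_eq_one_right ?_⟩
      rw [T.mul]
      unfold tw
      rw [if_neg fun h => hc ⟨h.1, h.2.1⟩, mul_inv_cancel, T.map_one]

theorem mem_img {K : Subgroup HNSub.F} {hK : HNSub.C0 ∈ K} {f : HNSub.F} (hf : f ∈ K) :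
    T.Φ f ∈ T.img K hK := ⟨f, hf, rfl⟩

theorem img_le (K : Subgroup HNSub.F) (hK : HNSub.C0 ∈ K) : T.img K hK ≤ centralizer {t} := by
  rintro _ ⟨a, -, rfl⟩
  exact T.mem a

theorem card_img (K : Subgroup HNSub.F) (hK : HNSub.C0 ∈ K) : Nat.card (T.img K hK) = Nat.card K := by
  rw [← SetLike.coe_sort_coe (T.img K hK), Nat.card_coe_set_eq]
  show (T.Φ '' K).ncard = _
  rw [Set.ncard_image_of_injective _ T.inj, ← Nat.card_coe_set_eq, SetLike.coe_sort_coe]

include T in
theorem card_centralizer : Nat.card (centralizer ({t} : Set G)) = 177408000 := by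
  rw [← HNSub.card_F]
  refine (Nat.card_congr (Equiv.ofBijective (fun f => (⟨T.Φ f, T.mem f⟩ : centralizer ({t} : Set G))) ⟨?_, ?_⟩)).symm
  · exact fun a b h => T.inj (congrArg Subtype.val h)
  · rintro ⟨g, hg⟩
    obtain ⟨f, rfl⟩ := T.surj g hg
    exact ⟨f, rfl⟩

end Twisted

theorem exists_twisted {G : Type u} [Group G] [Finite G] (t : G) (ht : orderOf t = 2)
    (M : Subgroup (centralizer ({t} : Set G))) [M.Normal] (hM : M.index = 2)
    (hout : centralizer (M : Set (centralizer ({t} : Set G))) ≤ M)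
    (hcov : IsNonsplitDoubleCover M ↥Spor.HS) : Nonempty (Twisted t) := by
  classical
  obtain ⟨e⟩ := exists_iso hcov
  let tC : centralizer ({t} : Set G) := ⟨t, mem_centralizer_singleton_iff.2 rfl⟩
  have htc : ∀ c : centralizer ({t} : Set G), c * tC = tC * c := fun c =>
    Subtype.ext (mem_centralizer_singleton_iff.1 c.2)
  have htM : tC ∈ M := hout (mem_centralizer_iff.2 fun c _ => htc c)
  let tM : M := ⟨tC, htM⟩
  have htM1 : tM ≠ 1 := fun h => by
    have : t = 1 := congrArg (fun m : M => ((m : centralizer ({t} : Set G)) : G)) h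
    rw [this, orderOf_one] at ht
    omega
  have htz : tM ∈ center M := mem_center_iff.2 fun m => Subtype.ext (htc m)
  have hzc : ∀ m ∈ center M, m = 1 ∨ m = tM := by
    intro m hm
    obtain ⟨x, hx⟩ := (Nat.card_eq_two_iff' (1 : center M)).1 hcov.1
    by_cases h1 : m = 1
    · exact Or.inl h1
    · right
      have e1 := hx.2 ⟨m, hm⟩ (fun h => h1 (congrArg Subtype.val h))
      have e2 := hx.2 ⟨tM, htz⟩ (fun h => htM1 (congrArg Subtype.val h))
      exact congrArg Subtype.val (e1.trans e2.symm)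
  have hec : e HNSub.c1 = tM := by
    refine (hzc _ (mem_center_iff.2 fun g => ?_)).resolve_left fun h => ?_
    · have h := congrArg e (mem_center_iff.1 HNSub.c1_center (e.symm g))
      rwa [map_mul, map_mul, e.apply_symm_apply] at h
    · rw [e.map_eq_one_iff] at h
      have := HNSub.c1_order
      rw [h, orderOf_one] at this
      omega
  obtain ⟨o, ho⟩ : ∃ o : centralizer ({t} : Set G), o ∉ M := by
    by_contra hall
    push Not at hall
    rw [(eq_top_iff.2 fun x _ => hall x : M = ⊤), index_top] at hM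
    omega
  obtain ⟨f, hf⟩ := conjNormal_surjective ((MulAut.congr e.symm) (MulAut.conjNormal o))
  have hfa : ∀ x : HNSub.G1, o * (e x : centralizer ({t} : Set G)) * o⁻¹ = e (MulAut.conjNormal f x) := fun x => by
    rw [DFunLike.congr_fun hf x]
    show _ = ((e (e.symm (MulAut.conjNormal o (e x))) : M) : centralizer ({t} : Set G))
    rw [e.apply_symm_apply, MulAut.conjNormal_apply]
  have hfG : f ∉ HNSub.G1 := fun hf1 => by
    refine ho ((M.mul_mem_cancel_left (M.inv_mem (e ⟨f, hf1⟩).2)).1 (hout (mem_centralizer_iff.2 fun m hm => ?_)))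
    obtain ⟨x, hx⟩ := e.surjective ⟨m, hm⟩
    have h := hfa x
    rw [show MulAut.conjNormal f x = ⟨f, hf1⟩ * x * (⟨f, hf1⟩ : HNSub.G1)⁻¹ from
      Subtype.ext (MulAut.conjNormal_apply f x), map_mul, map_mul, map_inv, hx, Subgroup.coe_mul, Subgroup.coe_mul,
      Subgroup.coe_inv] at h
    calc m * ((e ⟨f, hf1⟩ : centralizer ({t} : Set G))⁻¹ * o)
        = (e ⟨f, hf1⟩ : centralizer ({t} : Set G))⁻¹ * ((e ⟨f, hf1⟩ : centralizer ({t} : Set G)) * m *
            (e ⟨f, hf1⟩ : centralizer ({t} : Set G))⁻¹) * o := by group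
      _ = (e ⟨f, hf1⟩ : centralizer ({t} : Set G))⁻¹ * (o * m * o⁻¹) * o := by rw [h]
      _ = _ := by group
  have hZ2 : HNSub.Z * HNSub.Z = 1 := by rw [← pow_two]; exact HNSub.rels_F.r7
  have hZi : HNSub.Z⁻¹ = HNSub.Z := inv_eq_of_mul_eq_one_right hZ2
  have hfZ : f * HNSub.Z ∈ HNSub.G1 := mul_mem_G1.2 (iff_of_false hfG Z_not_mem)
  set d : centralizer ({t} : Set G) := (e ⟨f * HNSub.Z, hfZ⟩ : centralizer ({t} : Set G)) with hd
  set o' : centralizer ({t} : Set G) := d⁻¹ * o with ho'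
  have ho'M : o' ∉ M := fun h => ho ((M.mul_mem_cancel_left (M.inv_mem (e ⟨f * HNSub.Z, hfZ⟩).2)).1 h)
  have hconj : ∀ x : HNSub.G1, o' * (e x : centralizer ({t} : Set G)) = e (MulAut.conjNormal HNSub.Z x) * o' := fun x => by
    have h1 : MulAut.conjNormal HNSub.Z x =
        (⟨f * HNSub.Z, hfZ⟩ : HNSub.G1)⁻¹ * MulAut.conjNormal f x * ⟨f * HNSub.Z, hfZ⟩ := by
      refine Subtype.ext ?_
      simp only [MulAut.conjNormal_apply, Subgroup.coe_mul, Subgroup.coe_inv, mul_inv_rev, hZi]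
      group
    rw [h1, map_mul, map_mul, map_inv, Subgroup.coe_mul, Subgroup.coe_mul, Subgroup.coe_inv, ← hfa x, ho', hd]
    group
  clear_value o'
  clear hd ho'
  have hsq : ∀ x : HNSub.G1, o' * o' * (e x : centralizer ({t} : Set G)) = e x * (o' * o') := fun x => by
    rw [mul_assoc, hconj, ← mul_assoc, hconj, mul_assoc]
    congr 1
    rw [← MulAut.mul_apply, ← map_mul MulAut.conjNormal, hZ2, MonoidHom.map_one, MulAut.one_apply]
  have hsqM : o' * o' ∈ M := hout (mem_centralizer_iff.2 fun m hm => by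
    obtain ⟨x, hx⟩ := e.surjective ⟨m, hm⟩
    have := hsq x
    rw [hx] at this
    exact this.symm)
  have hsqz : (⟨o' * o', hsqM⟩ : M) = 1 ∨ (⟨o' * o', hsqM⟩ : M) = tM :=
    hzc _ (mem_center_iff.2 fun m => by
      obtain ⟨x, rfl⟩ := e.surjective m
      exact Subtype.ext (hsq x).symm)
  set τ : Bool := decide (o' * o' = tC) with hτ
  let Φ : HNSub.F → centralizer ({t} : Set G) := fun a =>
    if ha : a ∈ HNSub.G1 then (e ⟨a, ha⟩ : centralizer ({t} : Set G))
    else (e ⟨a * HNSub.Z, mul_mem_G1.2 (iff_of_false ha Z_not_mem)⟩ : centralizer ({t} : Set G)) * o'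
  have hmul : ∀ a b, Φ a * Φ b = Φ (tw τ a b) := by
    intro a b
    by_cases ha : a ∈ HNSub.G1 <;> by_cases hb : b ∈ HNSub.G1
    · have hab := HNSub.G1.mul_mem ha hb
      simp only [Φ, tw_of_left ha, dif_pos ha, dif_pos hb, dif_pos hab]
      rw [← Subgroup.coe_mul, ← map_mul]
      rfl
    · have hab : a * b ∉ HNSub.G1 := fun h => hb (HNSub.G1.mul_mem_cancel_left ha |>.1 h)
      simp only [Φ, tw_of_left ha, dif_pos ha, dif_neg hb, dif_neg hab]
      rw [← mul_assoc, ← Subgroup.coe_mul, ← map_mul]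
      exact congrArg (fun m => ((e m : M) : centralizer ({t} : Set G)) * o') (Subtype.ext (mul_assoc _ _ _).symm)
    · have hab : a * b ∉ HNSub.G1 := fun h => ha ((HNSub.G1.mul_mem_cancel_right hb).1 h)
      simp only [Φ, tw_of_right hb, dif_neg ha, dif_pos hb, dif_neg hab]
      rw [mul_assoc, hconj, ← mul_assoc, ← Subgroup.coe_mul, ← map_mul]
      refine congrArg (fun m => ((e m : M) : centralizer ({t} : Set G)) * o') (Subtype.ext ?_)
      show a * HNSub.Z * (MulAut.conjNormal HNSub.Z ⟨b, hb⟩ : HNSub.G1).1 = a * b * HNSub.Z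
      rw [MulAut.conjNormal_apply, hZi, mul_assoc a, ← mul_assoc HNSub.Z, ← mul_assoc HNSub.Z, hZ2, one_mul]
      group
    · have hab : a * b ∈ HNSub.G1 := mul_mem_G1.2 (iff_of_false ha hb)
      have hpre : Φ a * Φ b = e ⟨a * b, hab⟩ * (o' * o') := by
        simp only [Φ, dif_neg ha, dif_neg hb]
        rw [mul_assoc, ← mul_assoc o', hconj, ← mul_assoc, ← mul_assoc, ← Subgroup.coe_mul, ← map_mul, mul_assoc]
        refine congrArg (fun m => ((e m : M) : centralizer ({t} : Set G)) * (o' * o')) (Subtype.ext ?_)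
        show a * HNSub.Z * (MulAut.conjNormal HNSub.Z ⟨b * HNSub.Z, _⟩ : HNSub.G1).1 = a * b
        rw [MulAut.conjNormal_apply, hZi]
        simp only [mul_assoc]
        rw [← mul_assoc HNSub.Z HNSub.Z, hZ2, one_mul, mul_one]
      rw [hpre]
      unfold tw
      rcases hsqz with h | h
      · have h' : o' * o' = 1 := congrArg Subtype.val h
        have hτf : τ = false := by
          rw [hτ, decide_eq_false_iff_not, h']
          exact fun h2 => htM1 (Subtype.ext h2.symm)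
        rw [if_neg fun hh => Bool.false_ne_true (hτf.symm.trans hh.1), h', mul_one]
        simp only [Φ, dif_pos hab]
      · have h' : o' * o' = tC := congrArg Subtype.val h
        have hab' : a * b * HNSub.C0 ∈ HNSub.G1 := HNSub.G1.mul_mem hab C0_mem_G1
        rw [if_pos ⟨by rw [hτ, decide_eq_true_iff]; exact h', ha, hb⟩, h']
        simp only [Φ, dif_pos hab']
        rw [show (⟨a * b * HNSub.C0, hab'⟩ : HNSub.G1) = ⟨a * b, hab⟩ * HNSub.c1 from rfl, map_mul, hec,
          Subgroup.coe_mul]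
  have hinj : Function.Injective Φ := by
    intro a b h
    by_cases ha : a ∈ HNSub.G1 <;> by_cases hb : b ∈ HNSub.G1
    · simp only [Φ, dif_pos ha, dif_pos hb] at h
      exact congrArg Subtype.val (e.injective (Subtype.ext h))
    · simp only [Φ, dif_pos ha, dif_neg hb] at h
      exact absurd ((M.mul_mem_cancel_left (SetLike.coe_mem (e ⟨b * HNSub.Z, _⟩))).1 (h ▸ SetLike.coe_mem _)) ho'M
    · simp only [Φ, dif_neg ha, dif_pos hb] at h
      exact absurd ((M.mul_mem_cancel_left (SetLike.coe_mem (e ⟨a * HNSub.Z, _⟩))).1 (h ▸ SetLike.coe_mem _)) ho'M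
    · simp only [Φ, dif_neg ha, dif_neg hb] at h
      exact mul_right_cancel (congrArg Subtype.val (e.injective (Subtype.ext (mul_right_cancel h))))
  refine ⟨{ τ := τ, Φ := fun a => (Φ a : G), inj := fun a b h => hinj (Subtype.ext h), mem := fun a => (Φ a).2,
            surj := fun g hg => ?_, map_C0 := ?_,
            mul := fun a b => (Subgroup.coe_mul _ _ _).symm.trans (congrArg Subtype.val (hmul a b)) }⟩
  · let g' : centralizer ({t} : Set G) := ⟨g, hg⟩
    by_cases hg' : g' ∈ M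
    · refine ⟨(e.symm ⟨g', hg'⟩ : HNSub.G1), ?_⟩
      simp only [Φ, dif_pos (SetLike.coe_mem _), Subtype.coe_eta, e.apply_symm_apply]
      rfl
    · have hgo : g' * o'⁻¹ ∈ M := (mul_mem_iff_of_index_two hM).2 (iff_of_false hg' (fun h => ho'M (inv_mem_iff.1 h)))
      obtain ⟨x, hx⟩ := e.surjective ⟨g' * o'⁻¹, hgo⟩
      have hxZ : (x : HNSub.F) * HNSub.Z ∉ HNSub.G1 := fun h => Z_not_mem ((HNSub.G1.mul_mem_cancel_left x.2).1 h)
      refine ⟨(x : HNSub.F) * HNSub.Z, ?_⟩
      have hxe : (⟨(x : HNSub.F) * HNSub.Z * HNSub.Z, mul_mem_G1.2 (iff_of_false hxZ Z_not_mem)⟩ : HNSub.G1) = x :=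
        Subtype.ext (show (x : HNSub.F) * HNSub.Z * HNSub.Z = x by rw [mul_assoc, hZ2, mul_one])
      simp only [Φ, dif_neg hxZ]
      rw [hxe, hx]
      show ((g' * o'⁻¹ * o' : centralizer ({t} : Set G)) : G) = g
      rw [inv_mul_cancel_right]
  · simp only [Φ, dif_pos C0_mem_G1]
    rw [show (⟨HNSub.C0, C0_mem_G1⟩ : HNSub.G1) = HNSub.c1 from rfl, hec]

end Cfsg.Agent.Lib.HNType12
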